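import Mathlib

/-!
# Additive characters of a finite field invariant under Frobenius
-/

set_option autoImplicit false

namespace CfsgLib.RepBounds

/-- A primitive character invariant under all powers of the Frobenius map. -/
theorem exists_frobenius_char (F : Type*) [Field F] [Fintype F] (p : ℕ) [Fact p.Prime] [CharP F p] :
    ∃ ψ : AddChar F ℂ, AddChar.IsPrimitive ψ ∧ ∀ (n : ℕ) (x : F), ψ (x ^ (p ^ n)) = ψ x := by
  let : Algebra (ZMod p) F := ZMod.algebra F p
  have hζ : IsPrimitiveRoot (Complex.exp (2 * Real.pi * Complex.I / p)) p :=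
    Complex.isPrimitiveRoot_exp p (NeZero.ne p)
  set φ := AddChar.zmodChar p hζ.pow_eq_one with hφ
  let ψ : AddChar F ℂ := φ.compAddMonoidHom (Algebra.trace (ZMod p) F).toAddMonoidHom
  have h1 : ∀ x : F, ψ (x ^ p) = ψ x := by
    intro x
    have h := Algebra.trace_eq_of_algEquiv (FiniteField.frobeniusAlgEquiv (ZMod p) F p) x
    simp only [FiniteField.frobeniusAlgEquiv_apply, ZMod.card] at h
    simp only [ψ, AddChar.compAddMonoidHom_apply, LinearMap.toAddMonoidHom_coe, h]
  refine ⟨ψ, AddChar.IsPrimitive.of_ne_one fun h => ?_, fun n x => ?_⟩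
  · obtain ⟨x, hx⟩ : ∃ x : F, Algebra.trace (ZMod p) F x = 1 := by
      have hne := Algebra.trace_ne_zero (ZMod p) F
      obtain ⟨y, hy⟩ := LinearMap.surjective_of_ne_zero hne 1
      exact ⟨y, hy⟩
    have h2 : ψ x = 1 := by rw [h]; rfl
    have h3 : φ 1 = 1 := by
      simpa [ψ, AddChar.compAddMonoidHom_apply, hx] using h2
    have := (AddChar.zmod_char_ne_one_iff p φ).mp (fun h4 => by
      have := AddChar.zmodChar_primitive_of_primitive_root p hζ (one_ne_zero : (1 : ZMod p) ≠ 0)
      exact this (by rw [AddChar.mulShift_one]; exact h4))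
    exact this h3
  · induction n generalizing x with
    | zero => rw [pow_zero, pow_one]
    | succ n ih => rw [pow_succ, pow_mul, h1, ih]

/-- Every character of a finite field is a shift of a primitive one. -/
theorem exists_mulShift {F : Type*} [Field F] [Fintype F] {ψ : AddChar F ℂ} (hψ : AddChar.IsPrimitive ψ)
    (χ : AddChar F ℂ) : ∃ c : F, AddChar.mulShift ψ c = χ := by
  have h := (Fintype.bijective_iff_injective_and_card (AddChar.mulShift ψ)).mpr
    ⟨AddChar.to_mulShift_inj_of_isPrimitive hψ, (AddChar.card_eq (α := F)).symm⟩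
  exact h.2 χ

end CfsgLib.RepBounds
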