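import Cfsg.Agent.RepBounds.Weights

/-!
# Restricting a representation to an abelian subgroup

Conjugation permutes multiplicities of weights; a non-degenerate commutator pairing forces large multiplicities.
-/

set_option autoImplicit false

namespace CfsgLib.RepBounds

open Module

variable {G A V : Type*} [Group G] [AddCommGroup A] [Fintype A] [AddCommGroup V] [Module ℂ V]
  [FiniteDimensional ℂ V]

/-- The operators of an abelian family of elements. -/
noncomputable def resChar (ρ : Representation ℂ G V) (z : AddChar A G) : AddChar A (End ℂ V) :=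
  MonoidHom.compAddChar ρ z

omit [Fintype A] [FiniteDimensional ℂ V] in
theorem resChar_apply (ρ : Representation ℂ G V) (z : AddChar A G) (a : A) : resChar ρ z a = ρ (z a) := rfl

/-- An element normalising the family permutes the multiplicities. -/
theorem mult_comp_conj (ρ : Representation ℂ G V) (z : AddChar A G) (t : G) (σ : A ≃+ A)
    (h : ∀ a, t * z a * t⁻¹ = z (σ a)) (χ : AddChar A ℂ) :
    mult (resChar ρ z) (χ.compAddMonoidHom σ.toAddMonoidHom) = mult (resChar ρ z) χ := by
  refine mult_comp _ σ (fun a => ?_) χ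
  rw [resChar_apply, resChar_apply, ← h, map_mul ρ, map_mul ρ, LinearMap.trace_mul_comm, ← mul_assoc,
    ← map_mul ρ, inv_mul_cancel, map_one, one_mul]

omit [Fintype A] in
/-- An irreducible representation of dimension at least two is non-trivial. -/
theorem exists_ne_one (ρ : Representation ℂ G V) (hρ : ρ.IsIrreducible) (hk : 2 ≤ finrank ℂ V) :
    ∃ g, ρ g ≠ 1 := by
  by_contra h
  push Not at h
  have : Nontrivial V := Module.nontrivial_of_finrank_pos (R := ℂ) (by omega)
  obtain ⟨v, hv⟩ := exists_ne (0 : V)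
  let S : Subrepresentation ρ := ⟨Submodule.span ℂ {v}, fun g w hw => by rw [h g]; exact hw⟩
  rcases hρ.eq_bot_or_eq_top S with hS | hS
  · have := congrArg Subrepresentation.toSubmodule hS
    have h1 : Submodule.span ℂ {v} = (⊥ : Submodule ℂ V) := this
    exact hv (Submodule.span_singleton_eq_bot.mp h1)
  · have h1 := congrArg Subrepresentation.toSubmodule hS
    have h2 := finrank_span_singleton (K := ℂ) hv
    have h3 : Submodule.span ℂ {v} = ⊤ := h1
    rw [h3, finrank_top] at h2
    omega

omit [Fintype A] in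
/-- An element lying in no proper normal subgroup acts non-trivially. -/
theorem apply_ne_one (ρ : Representation ℂ G V) (hρ : ρ.IsIrreducible) (hk : 2 ≤ finrank ℂ V) (x : G)
    (hx : ∀ N : Subgroup G, N.Normal → x ∈ N → N = ⊤) : ρ x ≠ 1 := by
  intro h
  obtain ⟨g, hg⟩ := exists_ne_one ρ hρ hk
  have := hx (MonoidHom.ker ρ) inferInstance h
  exact hg (show g ∈ MonoidHom.ker ρ by rw [this]; trivial)

/-- Non-degenerate commutator pairing on a family `u` forces `|I| ≤ mult²`. -/
theorem card_le_mult_sq (ρ : Representation ℂ G V) (z : AddChar A G) (χ : AddChar A ℂ)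
    (hχ : 0 < mult (resChar ρ z) χ) {I : Type*} [Fintype I] (u : I → G)
    (hu : ∀ i a, Commute (u i) (z a))
    (horth : ∀ i j, i ≠ j → ∃ (v : G) (b : A), (∀ a, Commute v (z a)) ∧
      v * ((u j)⁻¹ * u i) * v⁻¹ = z b * ((u j)⁻¹ * u i) ∧ χ b ≠ 1) :
    Fintype.card I ≤ mult (resChar ρ z) χ ^ 2 := by
  set e := proj (resChar ρ z) χ with he
  have hc : ∀ g, (∀ a, Commute g (z a)) → ρ g * e = e * ρ g := by
    intro g hg
    simp only [he, proj, mul_smul_comm, smul_mul_assoc, Finset.mul_sum, Finset.sum_mul, resChar_apply]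
    refine congrArg _ (Finset.sum_congr rfl fun a _ => ?_)
    rw [← map_mul ρ, (hg a).eq, map_mul ρ]
  refine card_le_sq e (proj_mul_proj _ _) (fun h0 => ?_) (fun i => ρ (u i)) (fun i => ρ (u i)⁻¹)
    (fun i => hc _ (hu i)) (fun i => by rw [← map_mul, inv_mul_cancel, map_one]) (fun i j hij => ?_)
  · rw [mult, ← he, h0, LinearMap.range_zero, finrank_bot] at hχ
    omega
  · obtain ⟨v, b, hv, hvb, hne⟩ := horth i j hij
    refine trace_eq_zero_of_conj_smul (ρ v) (ρ v⁻¹) _ (by rw [← map_mul, inv_mul_cancel, map_one]) (χ b) hne ?_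
    set w := (u j)⁻¹ * u i with hw
    have hwc : Commute w (z b) := ((hu j b).inv_left).mul_left (hu i b)
    calc ρ v * (ρ (u j)⁻¹ * ρ (u i) * e) * ρ v⁻¹ = ρ v * ρ w * (e * ρ v⁻¹) := by
          rw [hw, map_mul]; simp only [mul_assoc]
      _ = ρ v * ρ w * (ρ v⁻¹ * e) := by rw [hc v⁻¹ (fun a => (hv a).inv_left)]
      _ = ρ (v * w * v⁻¹) * e := by simp only [hw, map_mul, mul_assoc]
      _ = ρ (z b * w) * e := by rw [hvb]
      _ = ρ w * (ρ (z b) * e) := by rw [← hwc.eq, map_mul, mul_assoc]
      _ = χ b • (ρ w * e) := by rw [← resChar_apply, he, map_mul_proj, mul_smul_comm]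
      _ = _ := by rw [hw, map_mul]

end CfsgLib.RepBounds
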