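import Cfsg.Agent.Linear.Basic

/-!
# Lower bounds for the orbits of quadratic functions under the general linear group

A quadratic function `f` with polar form `B` on an `n`-dimensional space over the field with `q` elements has
at least `(q^n - 1) / 2` translates if `f a ≠ 0` and `B a a ≠ 0` for some `a`, and at least
`(q^n - 1)(q^n - q) / (2(q+1))` translates if `B` is non-zero and alternating.
-/

set_option autoImplicit false

namespace CfsgLib.RepBounds

open Module

section counting

/-- If all fibres of `φ` have at most `m` elements then `|P| ≤ m |Z|`. -/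
theorem card_le_mul_card {P Z : Type*} [Finite P] [Finite Z] (φ : P → Z) (m : ℕ)
    (h : ∀ z, Nat.card {p // φ p = z} ≤ m) : Nat.card P ≤ m * Nat.card Z := by
  have : Fintype Z := Fintype.ofFinite Z
  rw [Nat.card_congr (Equiv.sigmaFiberEquiv φ).symm, Nat.card_sigma, Nat.card_eq_fintype_card (α := Z),
    mul_comm, ← smul_eq_mul, ← Finset.card_univ, ← Finset.sum_const]
  exact Finset.sum_le_sum fun z _ => h z

end counting

variable {F V : Type*} [Field F] [Fintype F] [AddCommGroup V] [Module F V] [Finite V]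

theorem card_linearEquiv (d : ℕ) (h : finrank F V = d) :
    Nat.card (V ≃ₗ[F] V) = ∏ i : Fin d, (Fintype.card F ^ d - Fintype.card F ^ (i : ℕ)) := by
  have : FiniteDimensional F V := Module.Finite.of_finite
  let e : V ≃ₗ[F] (Fin d → F) := (Module.finBasisOfFinrankEq F V h).equivFun
  let E : (V ≃ₗ[F] V) ≃ ((Fin d → F) ≃ₗ[F] (Fin d → F)) :=
    { toFun := fun g => (e.symm.trans g).trans e
      invFun := fun g => (e.trans g).trans e.symm
      left_inv := fun g => LinearEquiv.ext fun x => by simp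
      right_inv := fun g => LinearEquiv.ext fun x => by simp }
  rw [Nat.card_congr E,
    ← Nat.card_congr (LinearMap.GeneralLinearGroup.generalLinearEquiv F (Fin d → F)).toEquiv,
    ← Nat.card_congr (Matrix.GeneralLinearGroup.toLin).toEquiv, Matrix.card_GL_field]

theorem prod_succ (q n : ℕ) :
    (∏ i : Fin (n + 1), (q ^ (n + 1) - q ^ (i : ℕ))) =
      (q ^ (n + 1) - 1) * q ^ n * ∏ i : Fin n, (q ^ n - q ^ (i : ℕ)) := by
  rw [Fin.prod_univ_succ, Fin.val_zero, pow_zero, mul_assoc]
  congr 1
  calc (∏ i : Fin n, (q ^ (n + 1) - q ^ (i.succ : ℕ))) = ∏ i : Fin n, q * (q ^ n - q ^ (i : ℕ)) :=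
        Finset.prod_congr rfl fun i _ => by rw [Fin.val_succ, pow_succ', pow_succ', ← Nat.mul_sub]
    _ = _ := by rw [Finset.prod_mul_distrib, Finset.prod_const, Finset.card_univ, Fintype.card_fin]

theorem card_GL_pos (q n : ℕ) (hq : 2 ≤ q) : 0 < ∏ i : Fin n, (q ^ n - q ^ (i : ℕ)) :=
  Finset.prod_pos fun i _ => Nat.sub_pos_of_lt (Nat.pow_lt_pow_right (by omega) i.isLt)

/-- The translates of a function under linear automorphisms. -/
def formOrbit (f : V → F) : Set (V → F) := Set.range fun g : V ≃ₗ[F] V => f ∘ g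

instance instFiniteLinearEquiv : Finite (V ≃ₗ[F] V) :=
  Finite.of_injective (fun g => (g : V → V)) fun _ _ h => LinearEquiv.ext (congrFun h)

theorem card_le_orbit_mul (f : V → F) :
    Nat.card (V ≃ₗ[F] V) ≤ Nat.card (formOrbit f) * Nat.card {g : V ≃ₗ[F] V // f ∘ g = f} := by
  have hch : ∀ o : formOrbit f, ∃ g : V ≃ₗ[F] V, f ∘ g = o := fun o => o.2
  choose rep hrep using hch
  rw [← Nat.card_prod]
  let o : (V ≃ₗ[F] V) → formOrbit f := fun g => ⟨f ∘ g, g, rfl⟩
  refine Nat.card_le_card_of_injective (fun g => (o g, ⟨g * (rep (o g))⁻¹, ?_⟩)) ?_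
  · funext x
    have h := congrFun (hrep (o g)) ((rep (o g)).symm x)
    simpa [o] using h.symm
  · intro g g' h
    simp only [Prod.mk.injEq, Subtype.mk.injEq] at h
    rw [h.1] at h
    exact mul_right_cancel h.2

/-- The stabiliser is bounded by the possible images of a tuple times the automorphisms of a complement. -/
theorem card_stab_le (f : V → F) {P : Type*} [Finite P] (φ : {g : V ≃ₗ[F] V // f ∘ g = f} → P)
    (K : Submodule F V) (hK : ∀ g g', φ g = φ g' → ∀ x ∈ K, g'.1.symm (g.1 x) ∈ K)
    (hdet : ∀ g g', φ g = φ g' → (∀ x ∈ K, g.1 x = g'.1 x) → g = g') :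
    Nat.card {g : V ≃ₗ[F] V // f ∘ g = f} ≤ Nat.card P * Nat.card (K ≃ₗ[F] K) := by
  classical
  have : Finite K := inferInstance
  rw [← Nat.card_prod]
  have hch : ∀ p : Set.range φ, ∃ g, φ g = p := fun p => p.2
  choose rep hrep using hch
  have hinj : ∀ g, φ (rep ⟨φ g, g, rfl⟩) = φ g := fun g => hrep ⟨φ g, g, rfl⟩
  refine Nat.card_le_card_of_injective (fun g => (φ g,
    LinearEquiv.ofBijective (((rep ⟨φ g, g, rfl⟩).1.symm.toLinearMap.comp g.1.toLinearMap).restrict
      (hK g _ (hinj g).symm)) ?_)) ?_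
  · refine Finite.injective_iff_bijective.mp fun x y h => Subtype.ext ?_
    have h' := congrArg Subtype.val h
    simp only [LinearMap.coe_restrict_apply, LinearMap.coe_comp, Function.comp_apply,
      LinearEquiv.coe_coe] at h'
    exact g.1.injective ((rep ⟨φ g, g, rfl⟩).1.symm.injective h')
  · intro g g' h
    simp only [Prod.mk.injEq] at h
    refine hdet g g' h.1 fun x hx => ?_
    have h2 := congrArg Subtype.val (LinearEquiv.congr_fun h.2 ⟨x, hx⟩)
    simp only [LinearEquiv.ofBijective_apply, LinearMap.coe_restrict_apply, LinearMap.coe_comp,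
      Function.comp_apply, LinearEquiv.coe_coe] at h2
    have h3 : (⟨φ g, g, rfl⟩ : Set.range φ) = ⟨φ g', g', rfl⟩ := Subtype.ext h.1
    rw [h3] at h2
    exact (rep ⟨φ g', g', rfl⟩).1.symm.injective h2

section form

variable (f : V → F) (B : LinearMap.BilinForm F V) (hadd : ∀ x y, f (x + y) = f x + f y + B x y)
  (hsmul : ∀ (t : F) x, f (t • x) = t ^ 2 * f x)

include hadd hsmul

omit [Fintype F] [Finite V] in
theorem polar_symm (x y : V) : B x y = B y x := by
  have h1 := hadd x y
  rw [add_comm x y, hadd y x] at h1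
  linear_combination -h1

omit [Fintype F] [Finite V] in
theorem f_sub_smul (a z : V) (t : F) : f (z - t • a) = f z - t * B z a + t ^ 2 * f a := by
  rw [sub_eq_add_neg, ← neg_smul, hadd, hsmul, map_smul, smul_eq_mul]
  ring

omit [Fintype F] [Finite V] in
theorem stab_preserves {g : V ≃ₗ[F] V} (hg : f ∘ g = f) (x y : V) : B (g x) (g y) = B x y := by
  have h : ∀ v, f (g v) = f v := fun v => congrFun hg v
  have h1 := hadd (g x) (g y)
  rw [← map_add, h, h, h, hadd] at h1
  linear_combination -h1

omit [Finite V] in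
/-- Roots of a quadratic in one variable with non-zero leading coefficient. -/
theorem card_line_le_two {a : V} (ha : f a ≠ 0) (z : V) (c : F) :
    Nat.card {t : F // f (z - t • a) = c} ≤ 2 := by
  classical
  by_contra h
  push Not at h
  rw [Nat.card_eq_fintype_card] at h
  obtain ⟨⟨t1, h1⟩, ⟨t2, h2⟩, ⟨t3, h3⟩, h12, h13, h23⟩ := Fintype.two_lt_card_iff.mp h
  simp only [ne_eq, Subtype.mk.injEq] at h12 h13 h23
  rw [f_sub_smul f B hadd hsmul] at h1 h2 h3
  have e1 : (t1 - t2) * ((t1 + t2) * f a - B z a) = 0 := by linear_combination h1 - h2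
  have e2 : (t1 - t3) * ((t1 + t3) * f a - B z a) = 0 := by linear_combination h1 - h3
  have e3 := (mul_eq_zero.mp e1).resolve_left (sub_ne_zero.mpr h12)
  have e4 := (mul_eq_zero.mp e2).resolve_left (sub_ne_zero.mpr h13)
  have e5 : (t2 - t3) * f a = 0 := by linear_combination e3 - e4
  exact ha ((mul_eq_zero.mp e5).resolve_left (sub_ne_zero.mpr h23))

/-- Vectors of given value: at most two on each line parallel to an anisotropic vector. -/
theorem card_level_mul {a : V} (ha : f a ≠ 0) (c : F) :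
    Nat.card {x : V // f x = c} * Fintype.card F ≤ 2 * Nat.card V := by
  have h := card_le_mul_card (fun p : {x : V // f x = c} × F => p.1.1 + p.2 • a) 2 fun z => by
    refine le_trans ?_ (card_line_le_two f B hadd hsmul ha z c)
    refine Nat.card_le_card_of_injective (fun p => ⟨p.1.2, by
      rw [show z - p.1.2 • a = p.1.1.1 from sub_eq_iff_eq_add.mpr p.2.symm]; exact p.1.1.2⟩) ?_
    rintro ⟨⟨x, t⟩, hx⟩ ⟨⟨y, s⟩, hy⟩ h
    simp only [Subtype.mk.injEq] at h
    subst h
    simp only at hx hy
    have hxy := hx.trans hy.symm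
    simp only [add_left_inj] at hxy
    simp [Subtype.ext hxy]
  rwa [Nat.card_prod, Nat.card_eq_fintype_card (α := F)] at h

/-- The orbit bound `2 |orbit| ≥ q^n - 1`. -/
theorem card_formOrbit_of_value {a : V} (ha : f a ≠ 0) (hBa : B a a ≠ 0) :
    Fintype.card F ^ finrank F V - 1 ≤ 2 * Nat.card (formOrbit f) := by
  have : FiniteDimensional F V := Module.Finite.of_finite
  obtain ⟨n, hn⟩ : ∃ n, finrank F V = n + 1 :=
    ⟨finrank F V - 1, by
      have : Nontrivial V := ⟨a, 0, fun h => hBa (by rw [h]; simp)⟩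
      have := Module.finrank_pos (R := F) (M := V)
      omega⟩
  set q := Fintype.card F with hqdef
  have hq : 2 ≤ q := Fintype.one_lt_card
  have hV : Nat.card V = q ^ (n + 1) := by rw [Module.natCard_eq_pow_finrank (K := F), hn, Nat.card_eq_fintype_card]
  have hK : finrank F (LinearMap.ker (B a)) = n := by
    have hne : B a ≠ 0 := fun h => hBa (by rw [h]; rfl)
    have h1 := Module.Dual.finrank_ker_add_one_of_ne_zero hne
    omega
  let φ : {g : V ≃ₗ[F] V // f ∘ g = f} → {x : V // f x = f a} := fun g => ⟨g.1 a, congrFun g.2 a⟩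
  have h1 := card_stab_le f φ (LinearMap.ker (B a))
    (fun g g' h x hx => by
      rw [LinearMap.mem_ker] at hx ⊢
      have h' : g.1 a = g'.1 a := congrArg Subtype.val h
      rw [← stab_preserves f B hadd hsmul g'.2, LinearEquiv.apply_symm_apply, ← h',
        stab_preserves f B hadd hsmul g.2]
      exact hx)
    (fun g g' h hx => by
      have h' : g.1 a = g'.1 a := congrArg Subtype.val h
      refine Subtype.ext (LinearEquiv.ext fun x => ?_)
      have hk : x - (B a x / B a a) • a ∈ LinearMap.ker (B a) := by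
        rw [LinearMap.mem_ker, map_sub, map_smul, smul_eq_mul, div_mul_cancel₀ _ hBa, sub_self]
      have e := hx _ hk
      rw [map_sub, map_sub, map_smul, map_smul, h', sub_left_inj] at e
      exact e)
  have h2 := (card_le_orbit_mul f).trans (Nat.mul_le_mul_left _ h1)
  rw [card_linearEquiv (n + 1) hn, card_linearEquiv n hK, prod_succ] at h2
  have h3 := card_level_mul f B hadd hsmul ha (f a)
  rw [hV] at h3
  rw [hn]
  set X := Nat.card {x : V // f x = f a}
  set O := Nat.card (formOrbit f)
  set M := ∏ i : Fin n, (q ^ n - q ^ (i : ℕ)) with hM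
  have hMpos : 0 < M := card_GL_pos q n hq
  refine Nat.le_of_mul_le_mul_right ?_ (Nat.mul_pos hMpos (pow_pos (by omega : 0 < q) (n + 1)))
  calc (q ^ (n + 1) - 1) * (M * q ^ (n + 1)) = (q ^ (n + 1) - 1) * q ^ n * M * q := by ring
    _ ≤ O * (X * M) * q := Nat.mul_le_mul_right q h2
    _ = O * M * (X * q) := by ring
    _ ≤ O * M * (2 * q ^ (n + 1)) := Nat.mul_le_mul_left _ h3
    _ = _ := by ring

/-- On an anisotropic plane a conic has at most `q + 1` points. -/
theorem card_conic_le {a b : V} (hP : ∀ s t : F, f (s • a + t • b) = 0 → s = 0 ∧ t = 0) (z : V) (c : F) :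
    Nat.card {v : F × F // f (z - (v.1 • a + v.2 • b)) = c} ≤ Fintype.card F + 1 := by
  classical
  set Φ : F × F → F := fun v => f (z - (v.1 • a + v.2 • b)) with hΦ
  set L : F × F → V := fun v => v.1 • a + v.2 • b with hL
  by_cases hne : ∃ v0, Φ v0 = c
  swap
  · have : IsEmpty {v : F × F // f (z - (v.1 • a + v.2 • b)) = c} := ⟨fun v => hne ⟨v.1, v.2⟩⟩
    simp
  obtain ⟨v0, hv0⟩ := hne
  set z0 := z - L v0 with hz0
  have hΦ0 : ∀ δ : F × F, Φ (v0 + δ) = c - B z0 (L δ) + f (L δ) := by
    intro δ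
    have e : z - ((v0 + δ).1 • a + (v0 + δ).2 • b) = z0 - (1 : F) • L δ := by
      simp only [hz0, hL, Prod.fst_add, Prod.snd_add, add_smul, one_smul]
      abel
    simp only [hΦ] at hv0 ⊢
    rw [e, f_sub_smul f B hadd hsmul, one_mul, one_pow, one_mul]
    simp only [hz0, hL, hv0]
  let slope : F × F → Option F := fun δ => if δ.1 = 0 then none else some (δ.2 / δ.1)
  have hLsmul : ∀ (l : F) δ, L (l • δ) = l • L δ := fun l δ => by
    simp only [hL, Prod.smul_fst, Prod.smul_snd, smul_eq_mul, mul_smul, smul_add]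
  have hslope : ∀ δ δ' : F × F, δ ≠ 0 → slope δ' = slope δ → δ' ≠ 0 → ∃ l : F, δ' = l • δ := by
    intro δ δ' hδ he hδ'
    simp only [slope] at he
    split_ifs at he with h1 h2 h2
    · have h3 : δ.2 ≠ 0 := fun h => hδ (Prod.ext h2 h)
      exact ⟨δ'.2 / δ.2, Prod.ext (by simp [h1, h2]) (by simp [h3])⟩
    · have e := Option.some.inj he
      refine ⟨δ'.1 / δ.1, Prod.ext (by simp [h2]) ?_⟩
      simp only [Prod.smul_snd, smul_eq_mul]
      field_simp at e ⊢
      linear_combination e
  have hroot : ∀ (δ : F × F) (l : F), δ ≠ 0 → l ≠ 0 → Φ (v0 + l • δ) = c →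
      l * f (L δ) = B z0 (L δ) := by
    intro δ l _ hl h
    rw [hΦ0, hLsmul, map_smul, hsmul, smul_eq_mul] at h
    refine mul_left_cancel₀ hl ?_
    linear_combination h
  obtain ⟨δ0, hδ0, hℓ0⟩ : ∃ δ0 : F × F, δ0 ≠ 0 ∧ B z0 (L δ0) = 0 := by
    by_cases hb : B z0 b = 0
    · exact ⟨(0, 1), by simp, by simp [hL, hb]⟩
    · refine ⟨(B z0 b, -(B z0 a)), fun h => hb (congrArg Prod.fst h), ?_⟩
      simp only [hL, map_add, map_smul, smul_eq_mul]
      ring
  have hfne : ∀ δ : F × F, δ ≠ 0 → f (L δ) ≠ 0 := fun δ hδ h => by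
    obtain ⟨h1, h2⟩ := hP _ _ h
    exact hδ (Prod.ext h1 h2)
  let key : {v : F × F // f (z - (v.1 • a + v.2 • b)) = c} → Option F :=
    fun v => if v.1 = v0 then slope δ0 else slope (v.1 - v0)
  have hkey : Function.Injective key := by
    have haux : ∀ v : F × F, f (z - (v.1 • a + v.2 • b)) = c → v ≠ v0 → slope (v - v0) ≠ slope δ0 := by
      intro v hv hne he
      obtain ⟨l, hl⟩ := hslope δ0 (v - v0) hδ0 he (sub_ne_zero.mpr hne)
      have hl0 : l ≠ 0 := by rintro rfl; rw [zero_smul] at hl; exact hne (sub_eq_zero.mp hl)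
      have := hroot δ0 l hδ0 hl0 (by rw [← hl, add_sub_cancel]; exact hv)
      rw [hℓ0, mul_eq_zero] at this
      exact this.elim hl0 (hfne δ0 hδ0)
    rintro ⟨v, hv⟩ ⟨w, hw⟩ he
    simp only [key] at he
    split_ifs at he with h1 h2 h2
    · exact Subtype.ext (h1.trans h2.symm)
    · exact absurd he.symm (haux w hw h2)
    · exact absurd he (haux v hv h1)
    · obtain ⟨l, hl⟩ := hslope (v - v0) (w - v0) (sub_ne_zero.mpr h1) he.symm (sub_ne_zero.mpr h2)
      have hl0 : l ≠ 0 := by rintro rfl; rw [zero_smul] at hl; exact h2 (sub_eq_zero.mp hl)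
      have e1 := hroot (v - v0) 1 (sub_ne_zero.mpr h1) one_ne_zero (by rw [one_smul, add_sub_cancel]; exact hv)
      have e2 := hroot (v - v0) l (sub_ne_zero.mpr h1) hl0 (by rw [← hl, add_sub_cancel]; exact hw)
      have : l = 1 := mul_right_cancel₀ (hfne _ (sub_ne_zero.mpr h1)) (e2.trans e1.symm)
      rw [this, one_smul, sub_left_inj] at hl
      exact Subtype.ext hl.symm
  refine (Nat.card_le_card_of_injective key hkey).trans ?_
  rw [Nat.card_eq_fintype_card, Fintype.card_option]

/-- The orbit bound for an alternating non-zero polar form. -/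
theorem card_formOrbit_of_alt (halt : ∀ x, B x x = 0) (hB : B ≠ 0) :
    (Fintype.card F ^ finrank F V - 1) * (Fintype.card F ^ finrank F V - Fintype.card F) ≤
      Nat.card (formOrbit f) * (2 * (Fintype.card F + 1)) := by
  have : FiniteDimensional F V := Module.Finite.of_finite
  have hsymm := polar_symm f B hadd hsmul
  set q := Fintype.card F with hqdef
  have hq : 2 ≤ q := Fintype.one_lt_card
  obtain ⟨a, b, hab, hcase⟩ : ∃ a b : V, B a b = 1 ∧
      ((f a = 0 ∧ ∃ w, f w ≠ 0) ∨ (∀ s t : F, f (s • a + t • b) = 0 → s = 0 ∧ t = 0)) := by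
    have hscale : ∀ a : V, B a ≠ 0 → ∃ b, B a b = 1 := fun a ha => by
      obtain ⟨y, hy⟩ : ∃ y, B a y ≠ 0 := by
        by_contra h; push Not at h; exact ha (LinearMap.ext h)
      exact ⟨(B a y)⁻¹ • y, by rw [map_smul, smul_eq_mul, inv_mul_cancel₀ hy]⟩
    obtain ⟨a0, ha0⟩ : ∃ a, B a ≠ 0 := by
      by_contra h; push Not at h; exact hB (LinearMap.ext h)
    by_cases hiso : ∃ a, f a = 0 ∧ B a ≠ 0
    · obtain ⟨a, ha, hBa⟩ := hiso
      obtain ⟨b, hb⟩ := hscale a hBa
      refine ⟨a, b, hb, Or.inl ⟨ha, ?_⟩⟩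
      by_contra h
      push Not at h
      have := hadd a b
      rw [h, h, h, hb] at this
      exact one_ne_zero (by linear_combination -this : (1 : F) = 0)
    · push Not at hiso
      obtain ⟨b, hb⟩ := hscale a0 ha0
      refine ⟨a0, b, hb, Or.inr fun s t h => ?_⟩
      have h0 := hiso _ h
      have h1 := LinearMap.congr_fun h0 b
      have h2 := LinearMap.congr_fun h0 a0
      simp only [map_add, map_smul, LinearMap.add_apply, LinearMap.smul_apply, smul_eq_mul, hb, halt,
        LinearMap.zero_apply, hsymm b a0] at h1 h2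
      exact ⟨by linear_combination h1, by linear_combination h2⟩
  have hba : B b a = 1 := (hsymm b a).trans hab
  obtain ⟨n, hn, hK⟩ : ∃ n, finrank F V = n + 2 ∧
      finrank F (LinearMap.ker ((B a).prod (B b))) = n := by
    have hsur : LinearMap.range ((B a).prod (B b)) = ⊤ := by
      rw [LinearMap.range_eq_top]
      rintro ⟨s, t⟩
      exact ⟨s • b + t • a, by
        simp [map_add, map_smul, smul_eq_mul, hab, hba, halt]⟩
    have h := LinearMap.finrank_range_add_finrank_ker ((B a).prod (B b))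
    rw [hsur, finrank_top, Module.finrank_prod, Module.finrank_self] at h
    exact ⟨_, by omega, rfl⟩
  have hV : Nat.card V = q ^ (n + 2) := by
    rw [Module.natCard_eq_pow_finrank (K := F), hn, Nat.card_eq_fintype_card]
  set c := f a with hc
  set d := f b with hd
  let P := {p : V × V // f p.1 = c ∧ B p.1 p.2 = 1 ∧ f p.2 = d}
  let φ : {g : V ≃ₗ[F] V // f ∘ g = f} → P := fun g => ⟨(g.1 a, g.1 b), congrFun g.2 a,
    (stab_preserves f B hadd hsmul g.2 a b).trans hab, congrFun g.2 b⟩
  have h1 := card_stab_le f φ (LinearMap.ker ((B a).prod (B b)))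
    (fun g g' h x hx => by
      simp only [LinearMap.mem_ker, LinearMap.prod_apply, Function.prod_apply, Prod.ext_iff, Prod.fst_zero,
        Prod.snd_zero] at hx ⊢
      have ha' : g.1 a = g'.1 a := congrArg (fun p : P => p.1.1) h
      have hb' : g.1 b = g'.1 b := congrArg (fun p : P => p.1.2) h
      refine ⟨?_, ?_⟩
      · rw [← stab_preserves f B hadd hsmul g'.2, LinearEquiv.apply_symm_apply, ← ha',
          stab_preserves f B hadd hsmul g.2]
        exact hx.1
      · rw [← stab_preserves f B hadd hsmul g'.2, LinearEquiv.apply_symm_apply, ← hb',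
          stab_preserves f B hadd hsmul g.2]
        exact hx.2)
    (fun g g' h hx => by
      have ha' : g.1 a = g'.1 a := congrArg (fun p : P => p.1.1) h
      have hb' : g.1 b = g'.1 b := congrArg (fun p : P => p.1.2) h
      refine Subtype.ext (LinearEquiv.ext fun x => ?_)
      have hk : x - (B b x • a + B a x • b) ∈ LinearMap.ker ((B a).prod (B b)) := by
        simp [map_sub, map_add, map_smul, smul_eq_mul, hab, hba, halt]
      have e := hx _ hk
      rw [map_sub, map_sub, map_add, map_add, map_smul, map_smul, map_smul, map_smul, ha', hb',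
        sub_left_inj] at e
      exact e)
  have h2 := (card_le_orbit_mul f).trans (Nat.mul_le_mul_left _ h1)
  rw [card_linearEquiv (n + 2) hn, card_linearEquiv n hK, prod_succ, prod_succ] at h2
  have hfib : ∀ (x : V), Nat.card {y : V // B x y = 1} * q ≤ q ^ (n + 2) := by
    intro x
    rcases isEmpty_or_nonempty {y : V // B x y = 1} with h | ⟨⟨u, hu⟩⟩
    · simp
    have h := Nat.card_le_card_of_injective
      (fun p : {y : V // B x y = 1} × F => p.1.1 + p.2 • u) (by
        rintro ⟨⟨y, hy⟩, t⟩ ⟨⟨y', hy'⟩, t'⟩ h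
        simp only at h
        have h3 := congrArg (B x) h
        simp only [map_add, map_smul, hy, hy', hu, smul_eq_mul, mul_one, add_right_inj] at h3
        subst h3
        simp only [add_left_inj] at h
        subst h
        rfl)
    rwa [Nat.card_prod, Nat.card_eq_fintype_card (α := F), hV] at h
  have hY : ∀ (m : ℕ) (x : V), f x = c → (∀ z, B x z = 1 → Nat.card {t : F // f (z - t • x) = d} ≤ m) →
      Nat.card {y : V // B x y = 1 ∧ f y = d} * q ^ 2 ≤ m * q ^ (n + 2) := by
    intro m x _ hm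
    have h := card_le_mul_card
      (fun p : {y : V // B x y = 1 ∧ f y = d} × F =>
        (⟨p.1.1 + p.2 • x, by rw [map_add, map_smul, halt, smul_zero, add_zero]; exact p.1.2.1⟩ :
          {y : V // B x y = 1})) m fun z => by
        refine le_trans ?_ (hm z.1 z.2)
        refine Nat.card_le_card_of_injective
          (fun p => ⟨p.1.2, by rw [← congrArg Subtype.val p.2, add_sub_cancel_right]; exact p.1.1.2.2⟩) ?_
        rintro ⟨⟨y, t⟩, hy⟩ ⟨⟨y', t'⟩, hy'⟩ h
        simp only [Subtype.mk.injEq] at h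
        subst h
        have hyy := congrArg Subtype.val (hy.trans hy'.symm)
        simp only [add_left_inj] at hyy
        simp [Subtype.ext hyy]
    rw [Nat.card_prod, Nat.card_eq_fintype_card (α := F)] at h
    calc Nat.card {y : V // B x y = 1 ∧ f y = d} * q ^ 2
        = Nat.card {y : V // B x y = 1 ∧ f y = d} * q * q := by ring
      _ ≤ m * Nat.card {y : V // B x y = 1} * q := Nat.mul_le_mul_right _ h
      _ ≤ m * q ^ (n + 2) := by rw [mul_assoc]; exact Nat.mul_le_mul_left _ (hfib x)
  have hP : Nat.card P * q ^ 4 ≤ 2 * (q + 1) * (q ^ (n + 2)) ^ 2 := by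
    let _ : Fintype {x : V // f x = c} := Fintype.ofFinite _
    let E : P ≃ Σ x : {x : V // f x = c}, {y : V // B x.1 y = 1 ∧ f y = d} :=
      { toFun := fun p => ⟨⟨p.1.1, p.2.1⟩, p.1.2, p.2.2⟩
        invFun := fun p => ⟨(p.1.1, p.2.1), p.1.2, p.2.2⟩
        left_inv := fun p => rfl
        right_inv := fun p => rfl }
    have hX : ∀ Y : ℕ, (∀ x : V, f x = c → Nat.card {y : V // B x y = 1 ∧ f y = d} * q ^ 2 ≤ Y) →
        Nat.card P * q ^ 2 ≤ Nat.card {x : V // f x = c} * Y := by
      intro Y hY'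
      rw [Nat.card_congr E, Nat.card_sigma, Finset.sum_mul, Nat.card_eq_fintype_card (α := {x : V // f x = c}),
        ← smul_eq_mul, ← Finset.card_univ, ← Finset.sum_const]
      exact Finset.sum_le_sum fun x _ => hY' x.1 x.2
    rcases hcase with ⟨ha, w, hw⟩ | hP2
    · have hx := card_level_mul f B hadd hsmul hw c
      rw [hV] at hx
      have hy := hX _ fun x hx => hY 1 x hx fun z hz => by
        rw [Finite.card_le_one_iff_subsingleton]
        refine ⟨fun ⟨t, ht⟩ ⟨t', ht'⟩ => Subtype.ext ?_⟩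
        rw [f_sub_smul f B hadd hsmul, hx, ha, mul_zero, add_zero, hsymm z x, hz] at ht ht'
        linear_combination ht' - ht
      calc Nat.card P * q ^ 4 = Nat.card P * q ^ 2 * q ^ 2 := by ring
        _ ≤ Nat.card {x : V // f x = c} * (1 * q ^ (n + 2)) * q ^ 2 := Nat.mul_le_mul_right _ hy
        _ = (Nat.card {x : V // f x = c} * q) * q * q ^ (n + 2) := by ring
        _ ≤ 2 * q ^ (n + 2) * q * q ^ (n + 2) := by gcongr
        _ ≤ 2 * (q + 1) * (q ^ (n + 2)) ^ 2 := by
          rw [show 2 * q ^ (n + 2) * q * q ^ (n + 2) = 2 * q * (q ^ (n + 2)) ^ 2 by ring]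
          gcongr; omega
    · have hca : f a ≠ 0 := fun h => one_ne_zero (hP2 1 0 (by simpa using h)).1
      have hx : Nat.card {x : V // f x = c} * q ^ 2 ≤ (q + 1) * q ^ (n + 2) := by
        have h := card_le_mul_card
          (fun p : {x : V // f x = c} × (F × F) => p.1.1 + (p.2.1 • a + p.2.2 • b)) (q + 1) fun z => by
          refine le_trans ?_ (card_conic_le f B hadd hsmul hP2 z c)
          refine Nat.card_le_card_of_injective
            (fun p => ⟨p.1.2, by
              rw [show z - (p.1.2.1 • a + p.1.2.2 • b) = p.1.1.1 from sub_eq_iff_eq_add.mpr p.2.symm]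
              exact p.1.1.2⟩) ?_
          rintro ⟨⟨x, t⟩, hx⟩ ⟨⟨y, s⟩, hy⟩ h
          simp only [Subtype.mk.injEq] at h
          subst h
          simp only at hx hy
          have hxy := hx.trans hy.symm
          simp only [add_left_inj] at hxy
          simp [Subtype.ext hxy]
        rw [Nat.card_prod, Nat.card_prod, Nat.card_eq_fintype_card (α := F), hV] at h
        rwa [pow_two]
      have hy := hX _ fun x hx => hY 2 x hx fun z _ =>
        card_line_le_two f B hadd hsmul (by rw [hx]; exact hca) z d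
      calc Nat.card P * q ^ 4 = Nat.card P * q ^ 2 * q ^ 2 := by ring
        _ ≤ Nat.card {x : V // f x = c} * (2 * q ^ (n + 2)) * q ^ 2 := Nat.mul_le_mul_right _ hy
        _ = (Nat.card {x : V // f x = c} * q ^ 2) * (2 * q ^ (n + 2)) := by ring
        _ ≤ (q + 1) * q ^ (n + 2) * (2 * q ^ (n + 2)) := Nat.mul_le_mul_right _ hx
        _ = _ := by ring
  rw [hn]
  set O := Nat.card (formOrbit f)
  set M := ∏ i : Fin n, (q ^ n - q ^ (i : ℕ)) with hM
  have hMpos : 0 < M := card_GL_pos q n hq
  have hsub : q ^ (n + 2) - q = q * (q ^ (n + 1) - 1) := by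
    rw [Nat.mul_sub, ← pow_succ', mul_one]
  refine Nat.le_of_mul_le_mul_right ?_
    (Nat.mul_pos hMpos (pow_pos (pow_pos (by omega : 0 < q) (n + 2)) 2))
  calc (q ^ (n + 2) - 1) * (q ^ (n + 2) - q) * (M * (q ^ (n + 2)) ^ 2)
      = (q ^ (n + 2) - 1) * q ^ (n + 1) * ((q ^ (n + 1) - 1) * q ^ n * M) * q ^ 4 := by rw [hsub]; ring
    _ ≤ O * (Nat.card P * M) * q ^ 4 := Nat.mul_le_mul_right _ h2
    _ = O * M * (Nat.card P * q ^ 4) := by ring
    _ ≤ O * M * (2 * (q + 1) * (q ^ (n + 2)) ^ 2) := Nat.mul_le_mul_left _ hP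
    _ = _ := by ring

end form

end CfsgLib.RepBounds
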