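import Cfsg.Agent.RepBounds.Weights

/-!
# Marginals of multiplicities and a Parseval bound for traces
-/

set_option autoImplicit false

namespace CfsgLib.RepBounds

open Module

variable {A B V : Type*} [AddCommGroup A] [Fintype A] [AddCommGroup B] [Fintype B] [AddCommGroup V]
  [Module ℂ V] [FiniteDimensional ℂ V]

open Classical in
/-- The weights of `α` restricting to `χ`. -/
noncomputable def fibre (ι : A →+ B) (χ : AddChar A ℂ) : Finset (AddChar B ℂ) :=
  Finset.univ.filter fun Ξ => Ξ.compAddMonoidHom ι = χ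

omit [Fintype A] in
theorem mem_fibre {ι : A →+ B} {χ : AddChar A ℂ} {Ξ : AddChar B ℂ} :
    Ξ ∈ fibre ι χ ↔ Ξ.compAddMonoidHom ι = χ := by
  simp [fibre]

omit [Fintype A] in
theorem fibre_apply {ι : A →+ B} {χ : AddChar A ℂ} {Ξ : AddChar B ℂ} (h : Ξ ∈ fibre ι χ) (a : A) :
    Ξ (ι a) = χ a := by
  rw [← mem_fibre.mp h]; rfl

theorem proj_marginal (α : AddChar B (End ℂ V)) (ι : A →+ B) (χ : AddChar A ℂ) :
    proj (α.compAddMonoidHom ι) χ = ∑ Ξ ∈ fibre ι χ, proj α Ξ := by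
  classical
  have h : ∀ Ξ : AddChar B ℂ, proj (α.compAddMonoidHom ι) χ * proj α Ξ =
      if Ξ.compAddMonoidHom ι = χ then proj α Ξ else 0 := by
    intro Ξ
    rw [proj, smul_mul_assoc, Finset.sum_mul]
    simp only [smul_mul_assoc, AddChar.compAddMonoidHom_apply, map_mul_proj, smul_smul]
    rw [← Finset.sum_smul, smul_smul]
    have hs : ∑ a : A, χ (-a) * Ξ (ι a) = ∑ a : A, (Ξ.compAddMonoidHom ι - χ) a :=
      Finset.sum_congr rfl fun a _ => by rw [AddChar.sub_apply, AddChar.compAddMonoidHom_apply, mul_comm]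
    rw [hs, AddChar.sum_eq_ite]
    by_cases hc : Ξ.compAddMonoidHom ι = χ
    · rw [if_pos (sub_eq_zero.mpr hc), if_pos hc, inv_mul_cancel₀ (Nat.cast_ne_zero.mpr Fintype.card_ne_zero),
        one_smul]
    · rw [if_neg (sub_ne_zero.mpr hc), if_neg hc, mul_zero, zero_smul]
  rw [← mul_one (proj (α.compAddMonoidHom ι) χ), ← sum_proj α, Finset.mul_sum]
  simp only [h, fibre]
  rw [Finset.sum_filter]

theorem mult_marginal (α : AddChar B (End ℂ V)) (ι : A →+ B) (χ : AddChar A ℂ) :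
    mult (α.compAddMonoidHom ι) χ = ∑ Ξ ∈ fibre ι χ, mult α Ξ := by
  apply Nat.cast_injective (R := ℂ)
  rw [← trace_proj, proj_marginal, map_sum, Nat.cast_sum]
  exact Finset.sum_congr rfl fun Ξ _ => trace_proj α Ξ

theorem trace_mul_proj_marginal (α : AddChar B (End ℂ V)) (ι : A →+ B) (χ : AddChar A ℂ) (b : B) :
    LinearMap.trace ℂ V (α b * proj (α.compAddMonoidHom ι) χ) =
      ∑ Ξ ∈ fibre ι χ, Ξ b * (mult α Ξ : ℂ) := by
  rw [proj_marginal, Finset.mul_sum, map_sum]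
  exact Finset.sum_congr rfl fun Ξ _ => by rw [map_mul_proj, map_smul, trace_proj, smul_eq_mul]

theorem norm_apply_eq_one {S : Type*} [AddCommGroup S] [Finite S] (η : AddChar S ℂ) (s : S) :
    ‖η s‖ = 1 := by
  have : Fintype S := Fintype.ofFinite S
  have h : η s ^ Fintype.card S = 1 := by
    rw [← AddChar.map_nsmul_eq_pow, card_nsmul_eq_zero, AddChar.map_zero_eq_one]
  exact Complex.norm_eq_one_of_pow_eq_one h Fintype.card_ne_zero

/-- Parseval's identity for a combination of characters. -/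
theorem parseval {S : Type*} [AddCommGroup S] [Fintype S] (G : AddChar S ℂ → ℂ) :
    ∑ s : S, ‖∑ η : AddChar S ℂ, η s * G η‖ ^ 2 = Fintype.card S * ∑ η : AddChar S ℂ, ‖G η‖ ^ 2 := by
  classical
  apply Complex.ofReal_injective
  push_cast
  simp only [← Complex.mul_conj', map_sum, Finset.sum_mul_sum]
  rw [Finset.sum_comm, Finset.mul_sum]
  refine Finset.sum_congr rfl fun η _ => ?_
  rw [Finset.sum_comm]
  rw [Finset.sum_eq_single η]
  · have h : ∀ s : S, η s * G η * (starRingEnd ℂ) (η s * G η) = G η * (starRingEnd ℂ) (G η) := by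
      intro s
      rw [map_mul, mul_mul_mul_comm, Complex.mul_conj', norm_apply_eq_one]
      simp
    simp only [h, Finset.sum_const, Finset.card_univ, nsmul_eq_mul]
  · intro η' _ hne
    have h : ∀ s : S, η s * G η * (starRingEnd ℂ) (η' s * G η') = (η - η') s * (G η * (starRingEnd ℂ) (G η')) := by
      intro s
      rw [map_mul, mul_mul_mul_comm, AddChar.sub_apply, AddChar.map_neg_eq_conj]
    simp only [h, ← Finset.sum_mul, AddChar.sum_eq_ite, sub_eq_zero, if_neg hne.symm, zero_mul]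
  · simp

/-- A trace constant in absolute value along a direction is small. -/
theorem norm_sq_le {S : Type*} [AddCommGroup S] [Fintype S] (α : AddChar B (End ℂ V))
    (T : Finset (AddChar B ℂ)) (j : S →+ B) (b : B) (m0 : ℕ)
    (hm : ∀ η : AddChar S ℂ, ∑ Ξ ∈ T with Ξ.compAddMonoidHom j = η, mult α Ξ ≤ m0)
    (hconst : ∀ s : S, ‖∑ Ξ ∈ T, Ξ (j s + b) * (mult α Ξ : ℂ)‖ = ‖∑ Ξ ∈ T, Ξ b * (mult α Ξ : ℂ)‖) :
    ‖∑ Ξ ∈ T, Ξ b * (mult α Ξ : ℂ)‖ ^ 2 ≤ Fintype.card S * (m0 : ℝ) ^ 2 := by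
  classical
  set G : AddChar S ℂ → ℂ := fun η => ∑ Ξ ∈ T with Ξ.compAddMonoidHom j = η, Ξ b * (mult α Ξ : ℂ) with hG
  have hT : ∀ s : S, ∑ Ξ ∈ T, Ξ (j s + b) * (mult α Ξ : ℂ) = ∑ η : AddChar S ℂ, η s * G η := by
    intro s
    rw [← Finset.sum_fiberwise T (fun Ξ => Ξ.compAddMonoidHom j)]
    refine Finset.sum_congr rfl fun η _ => ?_
    rw [hG, Finset.mul_sum]
    refine Finset.sum_congr rfl fun Ξ hΞ => ?_
    rw [Finset.mem_filter] at hΞ
    rw [← hΞ.2, AddChar.compAddMonoidHom_apply, AddChar.map_add_eq_mul, mul_assoc]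
  have hGm : ∀ η, ‖G η‖ ^ 2 ≤ (m0 : ℝ) ^ 2 := fun η => by
    refine pow_le_pow_left₀ (norm_nonneg _) ((norm_sum_le _ _).trans ?_) 2
    simp only [norm_mul, norm_apply_eq_one, one_mul, Complex.norm_natCast]
    exact_mod_cast hm η
  have h := parseval G
  simp only [← hT, hconst, Finset.sum_const, Finset.card_univ, nsmul_eq_mul] at h
  have hpos : (0 : ℝ) < Fintype.card S := Nat.cast_pos.mpr Fintype.card_pos
  have h2 : ∑ η : AddChar S ℂ, ‖G η‖ ^ 2 ≤ Fintype.card S * (m0 : ℝ) ^ 2 := by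
    refine (Finset.sum_le_sum fun η _ => hGm η).trans ?_
    rw [Finset.sum_const, Finset.card_univ, nsmul_eq_mul, AddChar.card_eq]
  nlinarith

end CfsgLib.RepBounds
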