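import Cfsg.Agent.Forms.Symplectic
import Cfsg.Agent.RepBounds.Restrict
import Cfsg.Agent.RepBounds.FieldChar
import Cfsg.Agent.RepBounds.FormOrbit

/-!
# The radical of the Siegel parabolic of `Sp_{2n}` and degrees of representations

Characters of the group of symmetric matrices correspond to quadratic functions on `F^n`, compatibly with
congruence; hence the degree of a representation is at least the orbit of any weight that occurs.
-/

set_option autoImplicit false

namespace CfsgLib.RepBounds

open Matrix Module CfsgLib.Forms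

variable (n : ℕ) (F : Type*) [Field F]

/-- Symmetric matrices. -/
def symMat : Submodule F (Matrix (Fin n) (Fin n) F) where
  carrier := {S | Sᵀ = S}
  add_mem' {a b} ha hb := by
    simp only [Set.mem_setOf_eq] at ha hb ⊢
    rw [Matrix.transpose_add, ha, hb]
  zero_mem' := by simp
  smul_mem' c a ha := by
    simp only [Set.mem_setOf_eq] at ha ⊢
    rw [Matrix.transpose_smul, ha]

noncomputable instance fintypeSymMat [Fintype F] : Fintype (symMat n F) := Fintype.ofFinite _

variable {n F}

/-- `[1 S; 0 1]`. -/
def siegelMat (S : Matrix (Fin n) (Fin n) F) : Matrix (Fin n ⊕ Fin n) (Fin n ⊕ Fin n) F :=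
  Matrix.fromBlocks 1 S 0 1

theorem siegelMat_mem (S : symMat n F) : siegelMat S.1 ∈ Matrix.symplecticGroup (Fin n) F := by
  have hS : S.1ᵀ = S.1 := S.2
  rw [SymplecticGroup.mem_iff, siegelMat, Matrix.fromBlocks_transpose, Matrix.J,
    Matrix.fromBlocks_multiply, Matrix.fromBlocks_multiply]
  simp [hS]

/-- The radical of the Siegel parabolic. -/
noncomputable def siegelU : AddChar (symMat n F) (Matrix.symplecticGroup (Fin n) F) where
  toFun S := ⟨siegelMat S.1, siegelMat_mem S⟩
  map_zero_eq_one' := Subtype.ext (by simp [siegelMat])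
  map_add_eq_mul' S T := Subtype.ext (by simp [siegelMat, Matrix.fromBlocks_multiply, add_comm])

theorem coe_siegelU (S : symMat n F) :
    (siegelU S : Matrix (Fin n ⊕ Fin n) (Fin n ⊕ Fin n) F) = siegelMat S.1 := rfl

/-- `diag(g, g⁻ᵀ)`. -/
noncomputable def leviMat (g : GL (Fin n) F) : Matrix (Fin n ⊕ Fin n) (Fin n ⊕ Fin n) F :=
  Matrix.fromBlocks (g : Matrix (Fin n) (Fin n) F) 0 0 ((g⁻¹ : GL (Fin n) F) : Matrix (Fin n) (Fin n) F)ᵀ

theorem leviMat_mem (g : GL (Fin n) F) : leviMat g ∈ Matrix.symplecticGroup (Fin n) F := by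
  rw [SymplecticGroup.mem_iff, leviMat, Matrix.fromBlocks_transpose, Matrix.J,
    Matrix.fromBlocks_multiply, Matrix.fromBlocks_multiply]
  simp [← Matrix.transpose_mul, ← GeneralLinearGroup.coe_mul]

/-- The Levi element. -/
noncomputable def leviEl (g : GL (Fin n) F) : Matrix.symplecticGroup (Fin n) F :=
  ⟨leviMat g, leviMat_mem g⟩

/-- Congruence by `g`. -/
def congrSym (g : GL (Fin n) F) : symMat n F ≃+ symMat n F where
  toFun S := ⟨(g : Matrix (Fin n) (Fin n) F) * S.1 * (g : Matrix (Fin n) (Fin n) F)ᵀ, by
    have hS : S.1ᵀ = S.1 := S.2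
    show _ = _
    rw [Matrix.transpose_mul, Matrix.transpose_mul, Matrix.transpose_transpose, hS, mul_assoc]⟩
  invFun S := ⟨((g⁻¹ : GL (Fin n) F) : Matrix (Fin n) (Fin n) F) * S.1 *
      ((g⁻¹ : GL (Fin n) F) : Matrix (Fin n) (Fin n) F)ᵀ, by
    have hS : S.1ᵀ = S.1 := S.2
    show _ = _
    rw [Matrix.transpose_mul, Matrix.transpose_mul, Matrix.transpose_transpose, hS, mul_assoc]⟩
  left_inv S := by
    refine Subtype.ext ?_
    simp only [← mul_assoc, ← GeneralLinearGroup.coe_mul, inv_mul_cancel]
    rw [mul_assoc, ← Matrix.transpose_mul, ← GeneralLinearGroup.coe_mul, inv_mul_cancel]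
    simp
  right_inv S := by
    refine Subtype.ext ?_
    simp only [← mul_assoc, ← GeneralLinearGroup.coe_mul, mul_inv_cancel]
    rw [mul_assoc, ← Matrix.transpose_mul, ← GeneralLinearGroup.coe_mul, mul_inv_cancel]
    simp
  map_add' S T := Subtype.ext (by simp [mul_add, add_mul])

theorem leviEl_conj (g : GL (Fin n) F) (S : symMat n F) :
    leviEl g * siegelU S * (leviEl g)⁻¹ = siegelU (congrSym g S) := by
  rw [mul_inv_eq_iff_eq_mul]
  refine Subtype.ext ?_
  show leviMat g * siegelMat S.1 = siegelMat _ * leviMat g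
  simp only [leviMat, siegelMat, congrSym, AddEquiv.coe_mk, Equiv.coe_fn_mk, Matrix.fromBlocks_multiply]
  simp [mul_assoc, ← Matrix.transpose_mul, ← GeneralLinearGroup.coe_mul]

/-- `a aᵀ`. -/
def sqSym (a : Fin n → F) : symMat n F :=
  ⟨Matrix.vecMulVec a a, Matrix.transpose_vecMulVec a a⟩

/-- `x yᵀ + y xᵀ`. -/
def mulSym (x y : Fin n → F) : symMat n F :=
  ⟨Matrix.vecMulVec x y + Matrix.vecMulVec y x, by
    show _ = _
    rw [Matrix.transpose_add, Matrix.transpose_vecMulVec, Matrix.transpose_vecMulVec, add_comm]⟩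

/-- The quadratic function of a functional on symmetric matrices. -/
def quadOf (L : Module.Dual F (symMat n F)) (a : Fin n → F) : F := L (sqSym a)

/-- Its polar form. -/
def polarOf (L : Module.Dual F (symMat n F)) : LinearMap.BilinForm F (Fin n → F) :=
  LinearMap.mk₂ F (fun x y => L (mulSym x y))
    (fun x x' y => by
      rw [← map_add]; congr 1; refine Subtype.ext ?_
      simp [mulSym, Matrix.add_vecMulVec, Matrix.vecMulVec_add]; abel)
    (fun c x y => by
      rw [← map_smul]; congr 1; refine Subtype.ext ?_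
      simp [mulSym, Matrix.smul_vecMulVec, Matrix.vecMulVec_smul, smul_add])
    (fun x y y' => by
      rw [← map_add]; congr 1; refine Subtype.ext ?_
      simp [mulSym, Matrix.add_vecMulVec, Matrix.vecMulVec_add]; abel)
    (fun c x y => by
      rw [← map_smul]; congr 1; refine Subtype.ext ?_
      simp [mulSym, Matrix.smul_vecMulVec, Matrix.vecMulVec_smul, smul_add])

theorem polarOf_apply (L : Module.Dual F (symMat n F)) (x y : Fin n → F) :
    polarOf L x y = L (mulSym x y) := rfl

theorem quadOf_add (L : Module.Dual F (symMat n F)) (x y : Fin n → F) :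
    quadOf L (x + y) = quadOf L x + quadOf L y + polarOf L x y := by
  rw [quadOf, quadOf, quadOf, polarOf_apply, ← map_add, ← map_add]
  congr 1
  refine Subtype.ext ?_
  simp [sqSym, mulSym, Matrix.add_vecMulVec, Matrix.vecMulVec_add]
  abel

theorem quadOf_smul (L : Module.Dual F (symMat n F)) (t : F) (x : Fin n → F) :
    quadOf L (t • x) = t ^ 2 * quadOf L x := by
  rw [quadOf, quadOf, ← smul_eq_mul, ← map_smul]
  congr 1
  refine Subtype.ext ?_
  simp [sqSym, Matrix.smul_vecMulVec, Matrix.vecMulVec_smul, smul_smul, pow_two]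

/-- Squares span the symmetric matrices. -/
theorem dual_eq_zero {L : Module.Dual F (symMat n F)} (h : ∀ a, quadOf L a = 0) : L = 0 := by
  classical
  have hmul : ∀ x y, L (mulSym x y) = 0 := fun x y => by
    have := quadOf_add L x y
    rw [h, h, h, polarOf_apply] at this
    linear_combination -this
  have hsym : ∀ M : Matrix (Fin n) (Fin n) F, ∀ hM : (M + Mᵀ) ∈ symMat n F, L ⟨M + Mᵀ, hM⟩ = 0 := by
    let T : Matrix (Fin n) (Fin n) F →ₗ[F] symMat n F :=
      { toFun := fun M => ⟨M + Mᵀ, by show _ = _; rw [Matrix.transpose_add, Matrix.transpose_transpose, add_comm]⟩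
        map_add' := fun M N => Subtype.ext (by simp [Matrix.transpose_add]; abel)
        map_smul' := fun c M => Subtype.ext (by simp [Matrix.transpose_smul, smul_add]) }
    have hT : L.comp T = 0 := by
      refine Matrix.ext_linearMap _ fun i j => LinearMap.ext_ring ?_
      simp only [LinearMap.comp_apply, LinearMap.zero_apply, Matrix.singleLinearMap_apply]
      rw [show T (Matrix.single i j 1) = mulSym (Pi.single i 1) (Pi.single j 1) from Subtype.ext (by
        simp [T, mulSym, Matrix.single_eq_single_vecMulVec_single])]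
      exact hmul _ _
    intro M hM
    exact LinearMap.congr_fun hT M
  refine LinearMap.ext fun S => ?_
  have hS : S.1ᵀ = S.1 := S.2
  let T : Matrix (Fin n) (Fin n) F := Matrix.of fun i j => if i < j then S.1 i j else 0
  have hd : (S : Matrix (Fin n) (Fin n) F) = (T + Tᵀ) + ∑ i, (S.1 i i) • (sqSym (Pi.single i 1)).1 := by
    ext i j
    simp only [sqSym, Matrix.add_apply, Matrix.sum_apply, Matrix.smul_apply, Matrix.vecMulVec_apply,
      Matrix.transpose_apply, T, Matrix.of_apply, smul_eq_mul]
    rcases lt_trichotomy i j with hij | rfl | hij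
    · rw [if_pos hij, if_neg (not_lt.mpr hij.le), Finset.sum_eq_zero]
      · simp
      · intro k _
        rcases eq_or_ne k i with rfl | hk
        · simp [hij.ne']
        · simp [hk.symm]
    · simp [Pi.single_apply]
    · rw [if_neg (not_lt.mpr hij.le), if_pos hij, Finset.sum_eq_zero]
      · simpa using (congrFun (congrFun hS i) j).symm
      · intro k _
        rcases eq_or_ne k i with rfl | hk
        · simp [hij.ne]
        · simp [hk.symm]
  have hmem : T + Tᵀ ∈ symMat n F := by
    show _ = _; rw [Matrix.transpose_add, Matrix.transpose_transpose, add_comm]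
  have hS2 : S = (⟨T + Tᵀ, hmem⟩ : symMat n F) + ∑ i, (S.1 i i) • sqSym (Pi.single i 1) :=
    Subtype.ext (by simpa using hd)
  rw [hS2, map_add, hsym, map_sum, LinearMap.zero_apply, zero_add]
  exact Finset.sum_eq_zero fun i _ => by rw [map_smul, show L (sqSym (Pi.single i 1)) = 0 from h _, smul_zero]

variable [Fintype F]

/-- Every character of the symmetric matrices is `ψ ∘ L`. -/
theorem exists_dual {ψ : AddChar F ℂ} (hψ : AddChar.IsPrimitive ψ) (χ : AddChar (symMat n F) ℂ) :
    ∃ L : Module.Dual F (symMat n F), ψ.compAddMonoidHom L.toAddMonoidHom = χ := by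
  have : Finite (Module.Dual F (symMat n F)) := Module.finite_of_finite F
  let _ : Fintype (Module.Dual F (symMat n F)) := Fintype.ofFinite _
  let Φ : Module.Dual F (symMat n F) → AddChar (symMat n F) ℂ :=
    fun L => ψ.compAddMonoidHom L.toAddMonoidHom
  have hinj : Function.Injective Φ := by
    intro L L' h
    refine LinearMap.ext fun S => ?_
    refine AddChar.to_mulShift_inj_of_isPrimitive hψ (DFunLike.ext _ _ fun t => ?_)
    have h1 := DFunLike.congr_fun h (t • S)
    simp only [Φ, AddChar.compAddMonoidHom_apply, LinearMap.toAddMonoidHom_coe, map_smul, smul_eq_mul] at h1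
    rwa [AddChar.mulShift_apply, AddChar.mulShift_apply, mul_comm, mul_comm (L' S)]
  have hcard : Fintype.card (Module.Dual F (symMat n F)) = Fintype.card (AddChar (symMat n F) ℂ) := by
    rw [AddChar.card_eq, Module.card_eq_pow_finrank (K := F),
      Module.card_eq_pow_finrank (K := F) (V := symMat n F), Subspace.dual_finrank_eq]
  exact ((Fintype.bijective_iff_injective_and_card Φ).mpr ⟨hinj, hcard⟩).2 χ

/-- The orbit of an occurring weight bounds the degree. -/
theorem card_formOrbit_le_finrank {V : Type*} [AddCommGroup V] [Module ℂ V] [FiniteDimensional ℂ V]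
    (ρ : Representation ℂ (Matrix.symplecticGroup (Fin n) F) V) {ψ : AddChar F ℂ}
    (hψ : AddChar.IsPrimitive ψ) (L : Module.Dual F (symMat n F))
    (hL : 0 < mult (resChar ρ siegelU) (ψ.compAddMonoidHom L.toAddMonoidHom)) :
    Nat.card (formOrbit (F := F) (quadOf L)) ≤ finrank ℂ V := by
  classical
  set χ := ψ.compAddMonoidHom L.toAddMonoidHom with hχ
  have hrep : ∀ o : formOrbit (F := F) (quadOf L), ∃ G : GL (Fin n) F,
      ∀ a, o.1 a = L (congrSym G (sqSym a)) := by
    rintro ⟨o, g, rfl⟩
    refine ⟨Matrix.GeneralLinearGroup.toLin.symm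
      ((LinearMap.GeneralLinearGroup.generalLinearEquiv F (Fin n → F)).symm g), fun a => ?_⟩
    set G := Matrix.GeneralLinearGroup.toLin.symm
      ((LinearMap.GeneralLinearGroup.generalLinearEquiv F (Fin n → F)).symm g) with hG
    have hga : (G : Matrix (Fin n) (Fin n) F) *ᵥ a = g a := by
      have h1 : Matrix.toLin' (G : Matrix (Fin n) (Fin n) F) = (g : (Fin n → F) →ₗ[F] (Fin n → F)) := by
        have h2 : (Matrix.GeneralLinearGroup.toLin G : (Fin n → F) →ₗ[F] (Fin n → F)) =
            ((LinearMap.GeneralLinearGroup.generalLinearEquiv F (Fin n → F)).symm g :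
              (Fin n → F) →ₗ[F] (Fin n → F)) := by
          rw [hG, MulEquiv.apply_symm_apply]
        exact h2
      rw [← Matrix.toLin'_apply, h1]
      rfl
    show L (sqSym (g a)) = _
    congr 1
    refine Subtype.ext ?_
    show Matrix.vecMulVec (g a) (g a) = _
    rw [← hga]
    show _ = (G : Matrix (Fin n) (Fin n) F) * Matrix.vecMulVec a a * (G : Matrix (Fin n) (Fin n) F)ᵀ
    rw [Matrix.mul_vecMulVec, Matrix.vecMulVec_mul, Matrix.vecMul_transpose]
  choose G hG using hrep
  let w : formOrbit (F := F) (quadOf L) → AddChar (symMat n F) ℂ :=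
    fun o => χ.compAddMonoidHom (congrSym (G o)).toAddMonoidHom
  have hw : Function.Injective w := by
    intro o o' h
    refine Subtype.ext (funext fun a => ?_)
    rw [hG, hG]
    refine AddChar.to_mulShift_inj_of_isPrimitive hψ (DFunLike.ext _ _ fun t => ?_)
    have hlin : ∀ g : GL (Fin n) F, congrSym g (t • sqSym a) = t • congrSym g (sqSym a) := fun g =>
      Subtype.ext (by simp [congrSym])
    have h1 := DFunLike.congr_fun h (t • sqSym a)
    simp only [w, hχ, AddChar.compAddMonoidHom_apply, AddEquiv.coe_toAddMonoidHom,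
      LinearMap.toAddMonoidHom_coe, hlin, map_smul, smul_eq_mul] at h1
    rwa [AddChar.mulShift_apply, AddChar.mulShift_apply, mul_comm, mul_comm (L (congrSym (G o') _))]
  let _ : Fintype (formOrbit (F := F) (quadOf L)) := Fintype.ofFinite _
  have h := card_mul_le_finrank (resChar ρ siegelU) (Finset.univ.image w) 1 fun χ' hχ' => by
    obtain ⟨o, -, rfl⟩ := Finset.mem_image.mp hχ'
    have h2 := mult_comp_conj ρ siegelU (leviEl (G o)) (congrSym (G o)) (leviEl_conj (G o)) χ
    show 1 ≤ mult _ _
    simp only [w]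
    rw [h2]
    exact hL
  rwa [Finset.card_image_of_injective _ hw, mul_one, Finset.card_univ, ← Nat.card_eq_fintype_card] at h

omit [Fintype F] in
/-- A normal subgroup containing a full group of transvections with one centre is everything. -/
theorem normal_eq_top_of_transv (N : Subgroup (Matrix.symplecticGroup (Fin n) F)) [hN : N.Normal]
    {w : Fin n ⊕ Fin n → F} (hw : w ≠ 0) (h : ∀ c, spTransv w c ∈ N) : N = ⊤ := by
  have hscale : ∀ x : Fin n ⊕ Fin n → F, x ≠ 0 → ∃ y, Cfsg.sympForm n F x y = 1 := by
    intro x hx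
    obtain ⟨z, hz⟩ : ∃ z, Cfsg.sympForm n F x z ≠ 0 := by
      by_contra hall; push Not at hall; exact hx (sympForm_sep x hall)
    refine ⟨(Cfsg.sympForm n F x z)⁻¹ • z, ?_⟩
    rw [← sympBilin_apply, map_smul, sympBilin_apply, smul_eq_mul, inv_mul_cancel₀ hz]
  rw [eq_top_iff, ← transvGroup_eq_top, transvGroup, Subgroup.closure_le]
  rintro _ ⟨x, -, c, rfl⟩
  rcases eq_or_ne x 0 with rfl | hx
  · have : spTransv (0 : Fin n ⊕ Fin n → F) c = 1 := sp_ext fun v => by
      simp [spTransv, sympTransvection_mulVec]
    rw [this]; exact one_mem N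
  obtain ⟨v, hv⟩ := hscale w hw
  obtain ⟨v', hv'⟩ := hscale x hx
  obtain ⟨A, -, hAw, -⟩ := exists_mem_transvGroup_pair (⊤ : Submodule F (Fin n ⊕ Fin n → F))
    (fun u _ hu => by obtain ⟨y, hy⟩ := hscale u hu; exact ⟨y, trivial, by rw [hy]; exact one_ne_zero⟩)
    (u := w) (v := v) (u' := x) (v' := v') trivial trivial trivial trivial hv hv'
  have : spTransv x c = A * spTransv w c * A⁻¹ := by
    rw [eq_mul_inv_iff_mul_eq]
    refine sp_ext fun y => ?_
    simp only [Submonoid.coe_mul, ← Matrix.mulVec_mulVec, spTransv, sympTransvection_mulVec,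
      Matrix.mulVec_add, Matrix.mulVec_smul, hAw]
    rw [← hAw, sympForm_map]
  rw [this]
  exact hN.conj_mem _ (h c) A

omit [Fintype F] in
theorem spTransv_inl (i : Fin n) (c : F) (S : symMat n F) (hS : S.1 = Matrix.single i i c) :
    spTransv (Pi.single (Sum.inl i) 1) c = siegelU S := by
  refine sp_ext fun x => ?_
  rw [coe_siegelU, hS, siegelMat, spTransv, sympTransvection_mulVec, sympForm_single_inl,
    Matrix.fromBlocks_mulVec]
  ext j
  rcases j with j | j
  · simp [Matrix.single_mulVec, Pi.single_apply, Function.update_apply]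
  · simp [Pi.single_apply]

omit [Fintype F] in
/-- A normal subgroup containing the whole radical is everything. -/
theorem normal_eq_top_of_siegel (hn : 0 < n) (N : Subgroup (Matrix.symplecticGroup (Fin n) F)) [N.Normal]
    (h : ∀ S, siegelU S ∈ N) : N = ⊤ := by
  refine normal_eq_top_of_transv N (w := Pi.single (Sum.inl ⟨0, hn⟩) 1)
    (fun h => one_ne_zero ((Pi.single_eq_zero_iff).mp h)) fun c => ?_
  rw [spTransv_inl _ c ⟨_, Matrix.transpose_single _ _ _⟩ rfl]
  exact h _

omit [Fintype F] in
/-- In characteristic two a normal subgroup containing the alternating part of the radical is everything. -/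
theorem normal_eq_top_of_short [CharP F 2] {i j : Fin n} (hij : i ≠ j)
    (N : Subgroup (Matrix.symplecticGroup (Fin n) F)) [hN : N.Normal]
    (h : ∀ t : F, siegelU (mulSym (Pi.single i t) (Pi.single j 1)) ∈ N) : N = ⊤ := by
  classical
  have h2 : (2 : F) = 0 := CharTwo.two_eq_zero
  have hdet : (Matrix.transvection i j (1 : F)).det ≠ 0 := by
    rw [Matrix.det_transvection_of_ne i j hij]; exact one_ne_zero
  set g := GeneralLinearGroup.mkOfDetNeZero (Matrix.transvection i j (1 : F)) hdet with hg
  have hgi : ((g⁻¹ : GL (Fin n) F) : Matrix (Fin n) (Fin n) F) = Matrix.transvection i j (1 : F) := by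
    have h1 : g * g = 1 := Units.ext (by
      show Matrix.transvection i j (1 : F) * Matrix.transvection i j (1 : F) = 1
      rw [Matrix.transvection_mul_transvection_same i j hij, CharTwo.add_self_eq_zero, Matrix.transvection_zero])
    rw [inv_eq_of_mul_eq_one_right h1]
    rfl
  let w : Fin n ⊕ Fin n → F := Pi.single (Sum.inl j) 1 + Pi.single (Sum.inr j) 1
  have hD : leviEl g ∈ N := by
    have e : leviEl g = spTransv w 1 * siegelU (mulSym (Pi.single i 1) (Pi.single j 1)) * (spTransv w 1)⁻¹ := by
      rw [eq_mul_inv_iff_mul_eq]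
      refine sp_ext fun x => ?_
      have hw : ∀ y : Fin n ⊕ Fin n → F, Cfsg.sympForm n F y w = y (Sum.inr j) - y (Sum.inl j) := by
        intro y
        simp only [w, ← sympBilin_apply, map_add]
        simp only [sympBilin_apply, sympForm_single_inl, sympForm_single_inr, sub_eq_add_neg]
      simp only [Submonoid.coe_mul, ← Matrix.mulVec_mulVec, spTransv, sympTransvection_mulVec, leviEl,
        leviMat, coe_siegelU, siegelMat, mulSym, hw, hgi, one_mul]
      simp only [hg, GeneralLinearGroup.mkOfDetNeZero]
      ext k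
      rcases k with k | k <;>
        simp [w, Matrix.fromBlocks_mulVec, Matrix.transvection, Matrix.add_mulVec, Matrix.transpose_add,
          Matrix.single_mulVec, Matrix.vecMulVec_mulVec, Function.update_apply, Pi.single_apply, hij,
          hij.symm, CharTwo.neg_eq, CharTwo.sub_eq_add, Matrix.single_eq_single_vecMulVec_single] <;>
        split_ifs <;> subst_vars <;> simp_all <;> ring_nf <;> simp [h2]
    rw [e]
    exact hN.conj_mem _ (h 1) _
  refine normal_eq_top_of_transv N (w := Pi.single (Sum.inl i) 1)
    (fun h => one_ne_zero ((Pi.single_eq_zero_iff).mp h)) fun c => ?_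
  let S1 : symMat n F := ⟨Matrix.single j j c, Matrix.transpose_single _ _ _⟩
  have hcomm : leviEl g * siegelU S1 * (leviEl g)⁻¹ * (siegelU S1)⁻¹ ∈ N := by
    have := N.mul_mem hD (hN.conj_mem _ (N.inv_mem hD) (siegelU S1))
    rwa [← mul_assoc, ← mul_assoc] at this
  rw [leviEl_conj] at hcomm
  have e : congrSym g S1 =
      (⟨Matrix.single i i c, Matrix.transpose_single _ _ _⟩ : symMat n F) + mulSym (Pi.single i c) (Pi.single j 1) + S1 := by
    refine Subtype.ext ?_
    show Matrix.transvection i j (1 : F) * Matrix.single j j c * (Matrix.transvection i j (1 : F))ᵀ = _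
    have hsv : ∀ (a b : Fin n) (x y : F),
        Matrix.vecMulVec (Pi.single a x) (Pi.single b y) = Matrix.single a b (x * y) := fun a b x y => by
      ext k l
      rw [Matrix.vecMulVec_apply, Matrix.single_apply, Pi.single_apply, Pi.single_apply]
      split_ifs <;> simp_all
    simp only [S1, mulSym, Submodule.coe_add, hsv, Matrix.transvection, Matrix.transpose_add, Matrix.transpose_one,
      Matrix.transpose_single, add_mul, mul_add, one_mul, mul_one, Matrix.single_mul_single_same,
      ]
    abel
  rw [e, AddChar.map_add_eq_mul, AddChar.map_add_eq_mul, mul_inv_cancel_right] at hcomm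
  rw [spTransv_inl _ c ⟨Matrix.single i i c, Matrix.transpose_single _ _ _⟩ rfl]
  exact (N.mul_mem_cancel_right (h c)).mp hcomm

end CfsgLib.RepBounds
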