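import Cfsg.Agent.RepBounds.Restrict
import Cfsg.Agent.Characters.Integrality
import Cfsg.Agent.Characters.RepBasic

/-!
# Calculus of weight projectors

Orthogonality, push-forward, conjugation, restriction to invariant subspaces, and a divisibility property of an
idempotent averaged over a group.
-/

set_option autoImplicit false
set_option linter.unusedSectionVars false

namespace CfsgLib.RepBounds

open Module

variable {A B V : Type*} [AddCommGroup A] [Fintype A] [AddCommGroup B] [Fintype B] [AddCommGroup V] [Module ℂ V]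
  [FiniteDimensional ℂ V]

theorem proj_orth (α : AddChar A (End ℂ V)) {χ χ' : AddChar A ℂ} (h : χ ≠ χ') : proj α χ * proj α χ' = 0 := by
  classical
  nth_rewrite 1 [proj]
  rw [smul_mul_assoc, Finset.sum_mul]
  simp only [smul_mul_assoc, map_mul_proj, smul_smul, ← Finset.sum_smul]
  have hsum : ∑ a : A, χ (-a) * χ' a = 0 := by
    have h1 : ∑ a : A, (χ⁻¹ * χ') a = 0 := by
      rw [AddChar.sum_eq_ite, if_neg]
      intro h0
      exact h (inv_mul_eq_one.mp (h0.trans AddChar.one_eq_zero.symm))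
    simpa [AddChar.mul_apply, AddChar.inv_apply] using h1
  rw [hsum, mul_zero, zero_smul]

/-- An endomorphism commuting with the family commutes with the projectors. -/
theorem proj_comm (α : AddChar A (End ℂ V)) (χ : AddChar A ℂ) (X : End ℂ V) (h : ∀ a, X * α a = α a * X) :
    X * proj α χ = proj α χ * X := by
  simp only [proj, mul_smul_comm, smul_mul_assoc, Finset.mul_sum, Finset.sum_mul, h]

/-- The projector of the family restricted along a homomorphism. -/
theorem proj_push (α : AddChar A (End ℂ V)) (f : B →+ A) (ψ : AddChar B ℂ) [DecidableEq (AddChar B ℂ)] :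
    proj (α.compAddMonoidHom f) ψ = ∑ χ with χ.compAddMonoidHom f = ψ, proj α χ := by
  classical
  rw [← mul_one (proj (α.compAddMonoidHom f) ψ), ← sum_proj α, Finset.mul_sum, Finset.sum_filter]
  refine Finset.sum_congr rfl fun χ _ => ?_
  rw [proj, smul_mul_assoc, Finset.sum_mul]
  simp only [smul_mul_assoc, AddChar.compAddMonoidHom_apply, map_mul_proj, smul_smul, ← Finset.sum_smul]
  have h1 : ∑ b : B, ψ (-b) * χ (f b) = ∑ b : B, (ψ⁻¹ * χ.compAddMonoidHom f) b := by
    refine Finset.sum_congr rfl fun b _ => ?_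
    simp [AddChar.mul_apply, AddChar.inv_apply]
  rw [h1, AddChar.sum_eq_ite]
  split_ifs with h h' h'
  · rw [inv_mul_cancel₀ (Nat.cast_ne_zero.mpr Fintype.card_ne_zero), one_smul]
  · exact absurd (inv_mul_eq_one.mp (h.trans AddChar.one_eq_zero.symm)).symm h'
  · exact absurd (by rw [h', inv_mul_cancel, AddChar.one_eq_zero]) h
  · rw [mul_zero, zero_smul]

/-- Conjugating a projector. -/
theorem conj_proj (α : AddChar A (End ℂ V)) (χ : AddChar A ℂ) (X : End ℂ V) (σ : A ≃+ A)
    (h : ∀ a, X * α a = α (σ a) * X) :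
    X * proj α χ = proj α (χ.compAddMonoidHom σ.symm.toAddMonoidHom) * X := by
  simp only [proj, mul_smul_comm, smul_mul_assoc, Finset.mul_sum, Finset.sum_mul, h]
  congr 1
  refine Fintype.sum_equiv σ.toEquiv _ _ fun a => ?_
  simp

/-- Projectors of a restricted family. -/
theorem proj_restrict (α : AddChar A (End ℂ V)) (χ : AddChar A ℂ) (W : Submodule ℂ V) (β : AddChar A (End ℂ W))
    (h : ∀ a (w : W), (β a w : V) = α a w) (w : W) : (proj β χ w : V) = proj α χ w := by
  simp [proj, h]

/-- The rank of an idempotent, as a natural number. -/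
noncomputable def rnk (e : End ℂ V) : ℕ := finrank ℂ (LinearMap.range e)

theorem rnk_trace {e : End ℂ V} (he : e * e = e) : LinearMap.trace ℂ V e = (rnk e : ℂ) :=
  LinearMap.IsProj.trace ((LinearMap.isProj_range_iff_isIdempotentElem e).mpr he)

theorem rnk_le {e f : End ℂ V} (h : f * e = e) : rnk e ≤ rnk f := by
  refine Submodule.finrank_mono ?_
  rintro _ ⟨v, rfl⟩
  exact ⟨e v, LinearMap.congr_fun h v⟩

theorem rnk_pos {e : End ℂ V} (h : e ≠ 0) : 0 < rnk e := by
  rw [rnk, Nat.pos_iff_ne_zero, ne_eq, Submodule.finrank_eq_zero, LinearMap.range_eq_bot]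
  exact h

theorem eq_zero_of_rnk {e : End ℂ V} (h : rnk e = 0) : e = 0 := by
  by_contra h0
  exact (rnk_pos h0).ne' h

theorem rnk_le_finrank (e : End ℂ V) : rnk e ≤ finrank ℂ V := Submodule.finrank_le _

/-- Orthogonal idempotents inside `f`. -/
theorem sum_rnk_le {I : Type*} (s : Finset I) (e : I → End ℂ V) (f : End ℂ V) (he : ∀ i ∈ s, e i * e i = e i)
    (horth : ∀ i ∈ s, ∀ j ∈ s, i ≠ j → e i * e j = 0) (hf : ∀ i ∈ s, f * e i = e i) :
    ∑ i ∈ s, rnk (e i) ≤ rnk f := by
  classical
  have hidem : (∑ i ∈ s, e i) * ∑ i ∈ s, e i = ∑ i ∈ s, e i := by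
    rw [Finset.sum_mul]
    refine Finset.sum_congr rfl fun i hi => ?_
    rw [Finset.mul_sum, Finset.sum_eq_single_of_mem i hi (fun j hj hij => horth i hi j hj (Ne.symm hij)), he i hi]
  have hrk : rnk (∑ i ∈ s, e i) = ∑ i ∈ s, rnk (e i) := by
    apply Nat.cast_injective (R := ℂ)
    rw [← rnk_trace hidem, map_sum, Nat.cast_sum]
    exact Finset.sum_congr rfl fun i hi => rnk_trace (he i hi)
  rw [← hrk]
  refine rnk_le ?_
  rw [Finset.mul_sum]
  exact Finset.sum_congr rfl hf

/-- Orthogonal idempotents summing to `f`. -/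
theorem rnk_sum {I : Type*} (s : Finset I) (e : I → End ℂ V) (f : End ℂ V) (he : ∀ i ∈ s, e i * e i = e i)
    (hf : f * f = f) (hsum : ∑ i ∈ s, e i = f) : ∑ i ∈ s, rnk (e i) = rnk f := by
  apply Nat.cast_injective (R := ℂ)
  rw [← rnk_trace hf, ← hsum, map_sum, Nat.cast_sum]
  exact Finset.sum_congr rfl fun i hi => (rnk_trace (he i hi)).symm

/-- Conjugation preserves the rank. -/
theorem rnk_conj {e : End ℂ V} (X Y : End ℂ V) (hYX : Y * X = 1) (he : e * e = e) : rnk (X * e * Y) = rnk e := by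
  apply Nat.cast_injective (R := ℂ)
  have h1 : X * e * Y * (X * e * Y) = X * e * Y := by
    calc X * e * Y * (X * e * Y) = X * (e * (Y * X) * e) * Y := by simp only [mul_assoc]
      _ = X * e * Y := by rw [hYX, mul_one, he]
  rw [← rnk_trace h1, LinearMap.trace_mul_comm, ← mul_assoc, hYX, one_mul, rnk_trace he]

/-- The averaged traces of an idempotent. -/
theorem sum_trace_conj {G : Type*} [Group G] [Fintype G] (ρ : Representation ℂ G V) [ρ.IsIrreducible]
    {e : End ℂ V} (he : e * e = e) :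
    (∑ g : G, LinearMap.trace ℂ V (e * (ρ g * e * ρ g⁻¹))) * finrank ℂ V = Fintype.card G * (rnk e : ℂ) ^ 2 := by
  set S := ∑ g : G, ρ g * e * ρ g⁻¹ with hS
  obtain ⟨c, hc⟩ := CfsgLib.Characters.schur_scalar ρ S (fun h x => by
    show (S * ρ h) x = (ρ h * S) x
    congr 1
    rw [hS, Finset.sum_mul, Finset.mul_sum]
    refine Fintype.sum_equiv (Equiv.mulLeft h⁻¹) _ _ fun g => ?_
    simp only [Equiv.coe_mulLeft, mul_inv_rev, inv_inv, map_mul]
    simp only [← mul_assoc, ← map_mul, mul_inv_cancel, map_one, one_mul]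
    simp only [mul_assoc, ← map_mul])
  have hc' : S = c • 1 := hc
  have htr : ∀ g : G, LinearMap.trace ℂ V (ρ g * e * ρ g⁻¹) = rnk e := fun g => by
    rw [LinearMap.trace_mul_comm, ← mul_assoc, ← map_mul, inv_mul_cancel, map_one, one_mul, rnk_trace he]
  have h1 : c * finrank ℂ V = Fintype.card G * (rnk e : ℂ) := by
    have := congrArg (LinearMap.trace ℂ V) hc'
    rw [map_smul, LinearMap.trace_one, smul_eq_mul, hS, map_sum, Finset.sum_congr rfl (fun g _ => htr g),
      Finset.sum_const, Finset.card_univ, nsmul_eq_mul] at this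
    exact this.symm
  rw [← map_sum, ← Finset.mul_sum, ← hS, hc', mul_smul_comm, mul_one, map_smul, smul_eq_mul, rnk_trace he, sq,
    ← mul_assoc, ← h1]
  ring

/-- Traces of two conjugate averaging projectors are integral up to the square of the order. -/
theorem isIntegral_trace_avg {G : Type*} [Group G] (ρ : Representation ℂ G V) [Finite G] (z : AddChar A G) (g : G) :
    IsIntegral ℤ ((Fintype.card A : ℂ) ^ 2 *
      LinearMap.trace ℂ V (proj (resChar ρ z) 0 * (ρ g * proj (resChar ρ z) 0 * ρ g⁻¹))) := by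
  have h0 : ((Fintype.card A : ℂ)) • proj (resChar ρ z) 0 = ∑ a : A, ρ (z a) := by
    rw [proj, smul_smul, mul_inv_cancel₀ (Nat.cast_ne_zero.mpr Fintype.card_ne_zero), one_smul]
    simp [resChar_apply]
  have e : (Fintype.card A : ℂ) ^ 2 •
      (proj (resChar ρ z) 0 * (ρ g * proj (resChar ρ z) 0 * ρ g⁻¹)) = ∑ a : A, ∑ b : A, ρ (z a * (g * z b * g⁻¹)) := by
    rw [sq, mul_smul, ← smul_mul_assoc, h0]
    have h2 : (Fintype.card A : ℂ) • (ρ g * proj (resChar ρ z) 0 * ρ g⁻¹) = ρ g * (∑ b : A, ρ (z b)) * ρ g⁻¹ := by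
      rw [← h0, mul_smul_comm, smul_mul_assoc]
    rw [← mul_smul_comm, h2, Finset.sum_mul]
    simp only [Finset.mul_sum, Finset.sum_mul, map_mul]
  rw [← smul_eq_mul, ← map_smul, e, map_sum]
  refine IsIntegral.sum _ fun a _ => ?_
  rw [map_sum]
  exact IsIntegral.sum _ fun b _ => CfsgLib.Characters.char_isIntegral ρ _

end CfsgLib.RepBounds
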