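import Mathlib

/-!
# Irreducibility from a lower bound on degrees

A non-trivial representation of a perfect finite group whose degree does not exceed the least degree of a
non-linear irreducible one is irreducible.
-/

set_option autoImplicit false

namespace CfsgLib.RepBounds

open Module

universe u

variable {G : Type*} [Group G] [Finite G]

/-- Representations of degree at most one of a perfect group are trivial. -/
theorem eq_one_of_finrank_le_one (hG : commutator G = ⊤) {V : Type u} [AddCommGroup V] [Module ℂ V]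
    [FiniteDimensional ℂ V] (ρ : Representation ℂ G V) (h : finrank ℂ V ≤ 1) (g : G) : ρ g = 1 := by
  have hc : ∀ A B : End ℂ V, A * B = B * A := by
    intro A B
    obtain ⟨v, hv⟩ := finrank_le_one_iff.mp h
    refine LinearMap.ext fun x => ?_
    obtain ⟨c, rfl⟩ := hv x
    obtain ⟨a, ha⟩ := hv (A v)
    obtain ⟨b, hb⟩ := hv (B v)
    simp only [Module.End.mul_apply, map_smul, ← ha, ← hb, smul_smul, mul_comm a b]
  have hle : commutator G ≤ MonoidHom.ker ρ := by
    rw [commutator_eq_closure, Subgroup.closure_le]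
    rintro x ⟨a, b, rfl⟩
    show ρ _ = 1
    rw [commutatorElement_def, map_mul, map_mul, map_mul, hc (ρ a) (ρ b), mul_assoc (ρ b), ← map_mul ρ,
      mul_inv_cancel, map_one, mul_one, ← map_mul ρ, mul_inv_cancel, map_one]
  exact hle (hG ▸ Subgroup.mem_top g)

/-- Every representation of degree less than the bound is trivial. -/
theorem eq_one_of_finrank_lt (hG : commutator G = ⊤) (b : ℕ)
    (hb : ∀ (W : Type u) [AddCommGroup W] [Module ℂ W] [FiniteDimensional ℂ W] (σ : Representation ℂ G W),
      σ.IsIrreducible → 2 ≤ finrank ℂ W → b ≤ finrank ℂ W) (d : ℕ) :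
    ∀ (V : Type u) [AddCommGroup V] [Module ℂ V] [FiniteDimensional ℂ V] (ρ : Representation ℂ G V),
      finrank ℂ V = d → (d < b ∨ ¬ ρ.IsIrreducible) → d ≤ b → ∀ g, ρ g = 1 := by
  induction d using Nat.strong_induction_on with
  | _ d ih =>
  intro V _ _ _ ρ hd hor hle g
  rcases Nat.lt_or_ge d 2 with h1 | h2
  · exact eq_one_of_finrank_le_one hG ρ (by omega) g
  have hirr : ¬ ρ.IsIrreducible := by
    rcases hor with hlt | h
    · intro h
      have := hb V ρ h (by omega)
      omega
    · exact h
  have : Nontrivial V := Module.nontrivial_of_finrank_pos (R := ℂ) (by omega)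
  obtain ⟨S, hS0, hS1⟩ : ∃ S : Subrepresentation ρ, S ≠ ⊥ ∧ S ≠ ⊤ := by
    by_contra hall
    push Not at hall
    apply hirr
    exact
      { exists_pair_ne := ⟨⊥, ⊤, fun h => by
          obtain ⟨v, hv⟩ := exists_ne (0 : V)
          have h' := congrArg Subrepresentation.toSubmodule h
          have hm : v ∈ (⊤ : Submodule ℂ V) := trivial
          have h'' : (⊥ : Submodule ℂ V) = ⊤ := h'
          rw [← h''] at hm
          exact hv ((Submodule.mem_bot ℂ).mp hm)⟩
        eq_bot_or_eq_top := fun T => (em (T = ⊥)).imp id (hall T) }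
  obtain ⟨T, hT⟩ := exists_isCompl S
  have hST : IsCompl S.toSubmodule T.toSubmodule := by
    refine ⟨disjoint_iff.mpr ?_, codisjoint_iff.mpr ?_⟩
    · exact congrArg Subrepresentation.toSubmodule hT.inf_eq_bot
    · exact congrArg Subrepresentation.toSubmodule hT.sup_eq_top
  have hsum := Submodule.finrank_add_eq_of_isCompl hST
  have hSpos : 0 < finrank ℂ S.toSubmodule := by
    rw [Nat.pos_iff_ne_zero, ne_eq, Submodule.finrank_eq_zero]
    exact fun h => hS0 (Subrepresentation.toSubmodule_injective h)
  have hTpos : 0 < finrank ℂ T.toSubmodule := by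
    rw [Nat.pos_iff_ne_zero, ne_eq, Submodule.finrank_eq_zero]
    intro h
    apply hS1
    apply Subrepresentation.toSubmodule_injective
    have := hST.sup_eq_top
    rw [h, sup_bot_eq] at this
    exact this
  have hS := ih (finrank ℂ S.toSubmodule) (by omega) S.toSubmodule S.toRepresentation rfl (Or.inl (by omega))
    (by omega) g
  have hT' := ih (finrank ℂ T.toSubmodule) (by omega) T.toSubmodule T.toRepresentation rfl (Or.inl (by omega))
    (by omega) g
  refine LinearMap.ext fun v => ?_
  obtain ⟨x, hx, y, hy, rfl⟩ := Submodule.mem_sup.mp (show v ∈ S.toSubmodule ⊔ T.toSubmodule by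
    rw [hST.sup_eq_top]; trivial)
  have e1 : ρ g x = x := congrArg Subtype.val (LinearMap.congr_fun hS ⟨x, hx⟩)
  have e2 : ρ g y = y := congrArg Subtype.val (LinearMap.congr_fun hT' ⟨y, hy⟩)
  rw [map_add, e1, e2]
  rfl

/-- The criterion. -/
theorem irreducible_of_bound (hG : commutator G = ⊤) {V : Type u} [AddCommGroup V] [Module ℂ V]
    [FiniteDimensional ℂ V] (ρ : Representation ℂ G V)
    (hb : ∀ (W : Type u) [AddCommGroup W] [Module ℂ W] [FiniteDimensional ℂ W] (σ : Representation ℂ G W),
      σ.IsIrreducible → 2 ≤ finrank ℂ W → finrank ℂ V ≤ finrank ℂ W)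
    (hne : ∃ g, ρ g ≠ 1) : ρ.IsIrreducible := by
  by_contra h
  obtain ⟨g, hg⟩ := hne
  exact hg (eq_one_of_finrank_lt hG _ hb _ V ρ rfl (Or.inr h) le_rfl g)

end CfsgLib.RepBounds
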