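import Mathlib

/-!
# Weights of a finite abelian group of operators, and lower bounds for degrees

For a family `α : AddChar A (End V)` of operators indexed by a finite abelian group `A`, the weight projectors
`proj α χ` decompose `V`; `mult α χ` is the dimension of the weight space.
-/

set_option autoImplicit false

namespace CfsgLib.RepBounds

open Module

variable {A V : Type*} [AddCommGroup A] [Fintype A] [AddCommGroup V] [Module ℂ V] [FiniteDimensional ℂ V]

/-- The projector onto the `χ`-weight space. -/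
noncomputable def proj (α : AddChar A (End ℂ V)) (χ : AddChar A ℂ) : End ℂ V :=
  (Fintype.card A : ℂ)⁻¹ • ∑ a : A, χ (-a) • α a

/-- The dimension of the `χ`-weight space. -/
noncomputable def mult (α : AddChar A (End ℂ V)) (χ : AddChar A ℂ) : ℕ :=
  finrank ℂ (LinearMap.range (proj α χ))

variable (α : AddChar A (End ℂ V))

theorem map_mul_proj (χ : AddChar A ℂ) (b : A) : α b * proj α χ = χ b • proj α χ := by
  rw [proj, mul_smul_comm, smul_comm, Finset.mul_sum]
  congr 1
  rw [Finset.smul_sum]
  refine Fintype.sum_equiv (Equiv.addLeft b) _ _ fun a => ?_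
  rw [Equiv.coe_addLeft, mul_smul_comm, smul_smul, ← AddChar.map_add_eq_mul, ← AddChar.map_add_eq_mul,
    neg_add, add_neg_cancel_left]

theorem proj_mul_proj (χ : AddChar A ℂ) : proj α χ * proj α χ = proj α χ := by
  nth_rewrite 1 [proj]
  rw [smul_mul_assoc, Finset.sum_mul]
  simp only [smul_mul_assoc, map_mul_proj, smul_smul, ← AddChar.map_add_eq_mul, neg_add_cancel,
    AddChar.map_zero_eq_one, one_smul, Finset.sum_const, Finset.card_univ]
  rw [← Nat.cast_smul_eq_nsmul ℂ, smul_smul, inv_mul_cancel₀ (Nat.cast_ne_zero.mpr Fintype.card_ne_zero),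
    one_smul]

theorem sum_proj : ∑ χ : AddChar A ℂ, proj α χ = 1 := by
  classical
  simp only [proj, ← Finset.smul_sum]
  rw [Finset.sum_comm]
  simp only [← Finset.sum_smul, AddChar.sum_apply_eq_ite, neg_eq_zero, ite_smul, zero_smul,
    Finset.sum_ite_eq', Finset.mem_univ, if_true, AddChar.map_zero_eq_one, smul_smul]
  rw [inv_mul_cancel₀ (Nat.cast_ne_zero.mpr Fintype.card_ne_zero), one_smul]

theorem trace_proj (χ : AddChar A ℂ) : LinearMap.trace ℂ V (proj α χ) = (mult α χ : ℂ) :=
  LinearMap.IsProj.trace ((LinearMap.isProj_range_iff_isIdempotentElem _).mpr (proj_mul_proj α χ))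

theorem trace_map (b : A) :
    LinearMap.trace ℂ V (α b) = ∑ χ : AddChar A ℂ, χ b * (mult α χ : ℂ) := by
  have h : α b = ∑ χ : AddChar A ℂ, χ b • proj α χ := by
    rw [← mul_one (α b), ← sum_proj α, Finset.mul_sum]
    exact Finset.sum_congr rfl fun χ _ => map_mul_proj α χ b
  rw [h, map_sum]
  exact Finset.sum_congr rfl fun χ _ => by rw [map_smul, trace_proj, smul_eq_mul]

theorem sum_mult : ∑ χ : AddChar A ℂ, mult α χ = finrank ℂ V := by
  have h := trace_map α 0
  simp only [AddChar.map_zero_eq_one, LinearMap.trace_one, one_mul] at h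
  exact_mod_cast h.symm

theorem eq_one_of_mult_eq_zero (h : ∀ χ : AddChar A ℂ, χ ≠ 0 → mult α χ = 0) (b : A) : α b = 1 := by
  classical
  have hp : ∀ χ : AddChar A ℂ, χ ≠ 0 → proj α χ = 0 := fun χ hχ => by
    have := h χ hχ
    rw [mult, Submodule.finrank_eq_zero, LinearMap.range_eq_bot] at this
    exact this
  have h0 : proj α 0 = 1 := by
    rw [← sum_proj α, Finset.sum_eq_single 0 (fun χ _ hχ => hp χ hχ) (by simp)]
  have h1 := map_mul_proj α 0 b
  rw [h0, mul_one, AddChar.zero_apply, one_smul] at h1
  exact h1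

theorem exists_weight {b : A} (hb : α b ≠ 1) : ∃ χ : AddChar A ℂ, χ ≠ 0 ∧ 0 < mult α χ := by
  by_contra h
  push Not at h
  exact hb (eq_one_of_mult_eq_zero α (fun χ hχ => Nat.le_zero.mp (h χ hχ)) b)

/-- A symmetry of the traces permutes multiplicities. -/
theorem mult_comp (σ : A ≃+ A) (h : ∀ a, LinearMap.trace ℂ V (α (σ a)) = LinearMap.trace ℂ V (α a))
    (χ : AddChar A ℂ) : mult α (χ.compAddMonoidHom σ.toAddMonoidHom) = mult α χ := by
  apply Nat.cast_injective (R := ℂ)
  simp only [← trace_proj, proj, map_smul, map_sum, AddChar.compAddMonoidHom_apply]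
  congr 1
  refine Fintype.sum_equiv σ.toEquiv _ _ fun a => ?_
  simp only [AddEquiv.toEquiv_eq_coe, EquivLike.coe_coe, AddEquiv.coe_toAddMonoidHom, map_neg, h]

/-- A set of weights, each of multiplicity at least `m`. -/
theorem card_mul_le_finrank (S : Finset (AddChar A ℂ)) (m : ℕ) (h : ∀ χ ∈ S, m ≤ mult α χ) :
    S.card * m ≤ finrank ℂ V := by
  rw [← sum_mult α, ← smul_eq_mul]
  exact (Finset.card_nsmul_le_sum S _ m h).trans (Finset.sum_le_univ_sum_of_nonneg fun _ => Nat.zero_le _)

omit [Fintype A] in
/-- A twisted conjugate has trace zero. -/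
theorem trace_eq_zero_of_conj_smul (g h X : End ℂ V) (hgh : h * g = 1) (c : ℂ) (hc : c ≠ 1)
    (hX : g * X * h = c • X) : LinearMap.trace ℂ V X = 0 := by
  have h1 : LinearMap.trace ℂ V (g * X * h) = LinearMap.trace ℂ V X := by
    rw [LinearMap.trace_mul_comm, ← mul_assoc, hgh, one_mul]
  rw [hX, map_smul, smul_eq_mul] at h1
  by_contra h0
  exact hc ((mul_eq_right₀ h0).mp h1)

/-- A family of operators commuting with a projection whose quotients are trace-orthogonal on it. -/
theorem card_le_sq (e : End ℂ V) (he : e * e = e) (he0 : e ≠ 0) {I : Type*} [Fintype I]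
    (T T' : I → End ℂ V) (hcomm : ∀ i, T i * e = e * T i) (hinv : ∀ i, T' i * T i = 1)
    (horth : ∀ i j, i ≠ j → LinearMap.trace ℂ V (T' j * T i * e) = 0) :
    Fintype.card I ≤ finrank ℂ (LinearMap.range e) ^ 2 := by
  let Y : I → End ℂ (LinearMap.range e) := fun i =>
    (e.rangeRestrict ∘ₗ T i) ∘ₗ (LinearMap.range e).subtype
  have hY : LinearIndependent ℂ Y := by
    rw [Fintype.linearIndependent_iff]
    intro c hc j
    have hE : ∑ i, c i • (T i * e) = 0 := by
      apply LinearMap.ext
      intro v
      have h2 := congrArg Subtype.val (LinearMap.congr_fun hc ⟨e v, LinearMap.mem_range_self e v⟩)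
      simp only [Y, LinearMap.sum_apply, LinearMap.smul_apply, LinearMap.comp_apply, Submodule.coe_subtype,
        LinearMap.zero_apply, AddSubmonoidClass.coe_finset_sum, SetLike.val_smul, ZeroMemClass.coe_zero] at h2
      simp only [LinearMap.sum_apply, LinearMap.smul_apply, LinearMap.zero_apply]
      refine Eq.trans (Finset.sum_congr rfl fun i _ => ?_) h2
      congr 1
      have h3 : e * (T i * e) = T i * e := by rw [← mul_assoc, ← hcomm, mul_assoc, he]
      exact (LinearMap.congr_fun h3 v).symm
    have h1 := congrArg (fun X => LinearMap.trace ℂ V (T' j * X)) hE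
    simp only [Finset.mul_sum, mul_smul_comm, map_sum, map_smul, mul_zero, map_zero] at h1
    rw [Finset.sum_eq_single j (fun i _ hij => by rw [← mul_assoc, horth i j hij, smul_zero]) (by simp),
      ← mul_assoc, hinv, one_mul,
      LinearMap.IsProj.trace ((LinearMap.isProj_range_iff_isIdempotentElem e).mpr he), smul_eq_mul,
      mul_eq_zero] at h1
    refine h1.resolve_right fun h => he0 ?_
    rw [Nat.cast_eq_zero, Submodule.finrank_eq_zero, LinearMap.range_eq_bot] at h
    exact h
  have h := hY.fintype_card_le_finrank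
  rw [Module.finrank_linearMap] at h
  rwa [pow_two]

end CfsgLib.RepBounds
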