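import Cfsg.Agent.GaloisAverage.RealVector.Twisted

/-!
# The odd half of the Weil representation

For an alternating bilinear form `B` with non-degenerate commutator form on a finite `ZMod p`-space `W` with
`|W| = d²`, `d` odd, a group preserving `B` has a representation of degree `(d - 1) / 2`: the operators `P_g`
implementing `g` commute with `J = d⁻¹ ∑ τ x`, and are normalised by the determinants on its two eigenspaces.
-/

set_option autoImplicit false

namespace CfsgLib.RepBounds

open Matrix Module CfsgLib.GaloisAverage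

universe u

section restr

variable {V : Type*} [AddCommGroup V] [Module ℂ V]

/-- The restriction of an endomorphism to the range of a projection commuting with it. -/
noncomputable def onRange (e f : End ℂ V) (h : f * e = e * f) : End ℂ (LinearMap.range e) :=
  f.restrict fun x hx => by
    obtain ⟨y, rfl⟩ := hx
    exact ⟨f y, (LinearMap.congr_fun h y).symm⟩

theorem onRange_apply (e f : End ℂ V) (h : f * e = e * f) (x : LinearMap.range e) :
    (onRange e f h x : V) = f x.1 := rfl

theorem onRange_mul (e f g : End ℂ V) (hf : f * e = e * f) (hg : g * e = e * g) (hfg : f * g * e = e * (f * g)) :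
    onRange e (f * g) hfg = onRange e f hf * onRange e g hg :=
  LinearMap.ext fun _ => Subtype.ext rfl

theorem onRange_smul (e f : End ℂ V) (c : ℂ) (hf : f * e = e * f) (hcf : (c • f) * e = e * (c • f)) :
    onRange e (c • f) hcf = c • onRange e f hf :=
  LinearMap.ext fun _ => Subtype.ext rfl

theorem onRange_one (e : End ℂ V) (h : 1 * e = e * 1) : onRange e 1 h = 1 :=
  LinearMap.ext fun _ => Subtype.ext rfl

theorem onRange_congr (e : End ℂ V) {f g : End ℂ V} (h : f = g) (hf : f * e = e * f) (hg : g * e = e * g) :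
    onRange e f hf = onRange e g hg := by subst h; rfl

variable [FiniteDimensional ℂ V]

theorem det_onRange_ne_zero (e f g : End ℂ V) (hf : f * e = e * f) (hg : g * e = e * g) (hfg : f * g = 1) :
    LinearMap.det (onRange e f hf) ≠ 0 := by
  intro h0
  have h1 : LinearMap.det (onRange e f hf * onRange e g hg) = 1 := by
    rw [← onRange_mul e f g hf hg (by rw [hfg, one_mul, mul_one]), onRange_congr e hfg _ (by rw [one_mul, mul_one]),
      onRange_one, map_one]
  rw [map_mul, h0, zero_mul] at h1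
  exact zero_ne_one h1

theorem det_onRange_smul (e f : End ℂ V) (c : ℂ) (hf : f * e = e * f) (hcf : (c • f) * e = e * (c • f)) :
    LinearMap.det (onRange e (c • f) hcf) = c ^ finrank ℂ (LinearMap.range e) * LinearMap.det (onRange e f hf) := by
  rw [onRange_smul e f c hf, LinearMap.det_smul]

/-- Operators which are a group homomorphism up to scalars, commuting with a projection whose two ranks differ
by one, give a representation on the smaller range. -/
theorem exists_rep_of_projective {G : Type*} [Monoid G] (e : End ℂ V) (P : G → End ℂ V)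
    (hPe : ∀ g, P g * e = e * P g) (hPinv : ∀ g, ∃ Q, P g * Q = 1 ∧ Q * P g = 1)
    (k : G → G → ℂ) (hP : ∀ g h, P g * P h = k g h • P (g * h)) (k₁ : ℂ) (hP1 : P 1 = k₁ • 1)
    (hdim : finrank ℂ (LinearMap.range (1 - e)) = finrank ℂ (LinearMap.range e) + 1) :
    ∃ ρ : Representation ℂ G (LinearMap.range e), ∀ g, ∃ c : ℂ, c ≠ 0 ∧ ρ g = c • onRange e (P g) (hPe g) := by
  have hPe' : ∀ g, P g * (1 - e) = (1 - e) * P g := fun g => by rw [mul_sub, sub_mul, mul_one, one_mul, hPe]
  set A : G → ℂ := fun g => LinearMap.det (onRange (1 - e) (P g) (hPe' g)) with hA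
  set B : G → ℂ := fun g => LinearMap.det (onRange e (P g) (hPe g)) with hB
  set b := finrank ℂ (LinearMap.range e) with hb
  have hA0 : ∀ g, A g ≠ 0 := fun g => by
    obtain ⟨Q, hQ, hQ'⟩ := hPinv g
    refine det_onRange_ne_zero _ _ Q _ ?_ hQ
    calc Q * (1 - e) = Q * ((1 - e) * P g) * Q := by rw [mul_assoc, mul_assoc (1 - e), hQ, mul_one]
      _ = (1 - e) * Q := by rw [← hPe', ← mul_assoc, hQ', one_mul]
  have hB0 : ∀ g, B g ≠ 0 := fun g => by
    obtain ⟨Q, hQ, hQ'⟩ := hPinv g
    refine det_onRange_ne_zero _ _ Q _ ?_ hQ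
    calc Q * e = Q * (e * P g) * Q := by rw [mul_assoc, mul_assoc e, hQ, mul_one]
      _ = e * Q := by rw [← hPe, ← mul_assoc, hQ', one_mul]
  have hAk : ∀ g h, A g * A h = k g h ^ (b + 1) * A (g * h) := fun g h => by
    have h1 : P g * P h * (1 - e) = (1 - e) * (P g * P h) := by rw [mul_assoc, hPe', ← mul_assoc, hPe', mul_assoc]
    simp only [hA]
    rw [← map_mul, ← onRange_mul (1 - e) _ _ (hPe' g) (hPe' h) h1,
      onRange_congr (1 - e) (hP g h) h1 (by rw [smul_mul_assoc, hPe', mul_smul_comm]),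
      det_onRange_smul _ _ _ (hPe' _), hdim]
  have hBk : ∀ g h, B g * B h = k g h ^ b * B (g * h) := fun g h => by
    have h1 : P g * P h * e = e * (P g * P h) := by rw [mul_assoc, hPe, ← mul_assoc, hPe, mul_assoc]
    simp only [hB]
    rw [← map_mul, ← onRange_mul e _ _ (hPe g) (hPe h) h1,
      onRange_congr e (hP g h) h1 (by rw [smul_mul_assoc, hPe, mul_smul_comm]),
      det_onRange_smul _ _ _ (hPe _)]
  have hc : ∀ g h, B g / A g * (B h / A h) * k g h = B (g * h) / A (g * h) := fun g h => by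
    have hk : k g h ≠ 0 := by
      intro h0
      have := hBk g h
      rw [h0] at this
      rcases Nat.eq_zero_or_pos b with hb0 | hb0
      · have h2 := hAk g h
        rw [h0, hb0, zero_add, pow_one, zero_mul] at h2
        exact mul_ne_zero (hA0 g) (hA0 h) h2
      · rw [zero_pow hb0.ne', zero_mul] at this
        exact mul_ne_zero (hB0 g) (hB0 h) this
    rw [div_mul_div_comm, hBk, hAk, pow_succ]
    field_simp [hA0 (g * h)]
  have h11 : B 1 / A 1 * k₁ = 1 := by
    simp only [hA, hB]
    rw [onRange_congr (1 - e) hP1 _ (by rw [smul_mul_assoc, one_mul, mul_smul_comm, mul_one]),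
      onRange_congr e hP1 _ (by rw [smul_mul_assoc, one_mul, mul_smul_comm, mul_one]),
      det_onRange_smul _ _ _ (by rw [one_mul, mul_one]), det_onRange_smul _ _ _ (by rw [one_mul, mul_one]),
      onRange_one, onRange_one, map_one, map_one, hdim, ← hb, mul_one, mul_one, pow_succ]
    have hk : k₁ ≠ 0 := by
      intro h0
      obtain ⟨Q, hQ, -⟩ := hPinv 1
      rw [hP1, h0, zero_smul, zero_mul] at hQ
      have hx : (1 : End ℂ (LinearMap.range (1 - e))) = 0 := LinearMap.ext fun x => Subtype.ext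
        (by show x.1 = 0; simpa using (LinearMap.congr_fun hQ x.1).symm)
      have : Nontrivial (LinearMap.range (1 - e)) :=
        Module.nontrivial_of_finrank_pos (R := ℂ) (by omega)
      exact one_ne_zero hx
    field_simp
  refine ⟨{ toFun := fun g => (B g / A g) • onRange e (P g) (hPe g), map_one' := ?_, map_mul' := fun g h => ?_ },
    fun g => ⟨B g / A g, div_ne_zero (hB0 g) (hA0 g), rfl⟩⟩
  · rw [onRange_congr e hP1 _ (by rw [smul_mul_assoc, one_mul, mul_smul_comm, mul_one]),
      onRange_smul _ _ _ (by rw [one_mul, mul_one]), onRange_one, smul_smul, h11, one_smul]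
  · rw [smul_mul_assoc, mul_smul_comm, smul_smul,
      ← onRange_mul e _ _ (hPe g) (hPe h) (by rw [mul_assoc, hPe, ← mul_assoc, hPe, mul_assoc]),
      onRange_congr e (hP g h) _ (by rw [smul_mul_assoc, hPe, mul_smul_comm]),
      onRange_smul _ _ _ (hPe _), smul_smul, hc]

end restr

variable {p : ℕ} [Fact p.Prime] {W : Type u} [AddCommGroup W] [Module (ZMod p) W] [Fintype W]

/-- The half Weil representation. -/
theorem exists_halfRep (B : W →ₗ[ZMod p] W →ₗ[ZMod p] ZMod p) (hB : ∀ x, (∀ z, B x z = B z x) → x = 0)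
    (halt : ∀ x, B x x = 0) {G : Type*} [Monoid G] (act : G → W ≃+ W)
    (hact : ∀ g x z, B (act g x) (act g z) = B x z) (hone : ∀ x, act 1 x = x)
    (hmul : ∀ g h x, act (g * h) x = act g (act h x))
    (htrans : ∀ x z : W, x ≠ 0 → z ≠ 0 → ∃ g, act g x = z) {d b : ℕ} (hd : d ^ 2 = Fintype.card W)
    (hdb : d = 2 * b + 1) (hb : 2 ≤ b) :
    ∃ ρ : Representation ℂ G (Fin b → ℂ), ∃ g, ρ g ≠ 1 := by
  classical
  obtain ⟨d', τ, hτ⟩ := exists_twisted B hB
  obtain rfl : d' = d := Nat.pow_left_injective two_ne_zero (hτ.dim_sq.trans hd.symm)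
  have hanti : ∀ x z, B z x = -B x z := fun x z => by
    have := halt (x + z)
    simp only [map_add, LinearMap.add_apply, halt, zero_add, add_zero] at this
    exact eq_neg_of_add_eq_zero_left this
  set S : Matrix (Fin d') (Fin d') ℂ := ∑ y, τ y with hS
  have hSτ : ∀ x, S * τ x = τ (-x) * S := by
    intro x
    rw [hS, Finset.sum_mul, Finset.mul_sum]
    refine Fintype.sum_equiv (Equiv.addRight (x + x)) _ _ fun y => ?_
    rw [Equiv.coe_addRight, hτ.map_mul, hτ.map_mul, neg_add_eq_sub,
      show y + (x + x) - x = y + x by abel]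
    congr 2
    rw [map_add, map_add, map_neg, LinearMap.neg_apply, LinearMap.neg_apply, halt, hanti x y]
    simp
  have hSS : S * S = (Fintype.card W : ℂ) • 1 := by
    rw [hS, Finset.sum_mul_sum]
    simp only [hτ.map_mul]
    have h1 : ∀ x : W, ∑ z : W, pc p (B x z) • τ (x + z) = ∑ w : W, pc p (B x w) • τ w := fun x => by
      refine Fintype.sum_equiv (Equiv.addLeft x) _ _ fun z => ?_
      rw [Equiv.coe_addLeft, map_add, halt, zero_add]
    simp only [h1]
    rw [Finset.sum_comm]
    simp only [← Finset.sum_smul]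
    rw [Finset.sum_eq_single (0 : W)]
    · simp [hτ.map_zero, pc_zero]
    · intro w _ hw
      have hne : (pc p).compAddMonoidHom (B.flip w).toAddMonoidHom ≠ 0 := by
        intro h
        apply hw
        refine hB w fun z => ?_
        have h2 := DFunLike.congr_fun h z
        rw [AddChar.compAddMonoidHom_apply, AddChar.zero_apply] at h2
        have h3 : B z w = 0 := pc_eq_one_iff.mp h2
        rw [h3, hanti z w, h3, neg_zero]
      have h4 : ∑ x : W, pc p (B x w) = ∑ x : W, (pc p).compAddMonoidHom (B.flip w).toAddMonoidHom x := rfl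
      rw [h4, AddChar.sum_eq_ite, if_neg hne, zero_smul]
    · simp
  have hd0 : (d' : ℂ) ≠ 0 := Nat.cast_ne_zero.mpr hτ.pos.ne'
  have hcard : (Fintype.card W : ℂ) = (d' : ℂ) * d' := by rw [← hd, pow_two, Nat.cast_mul]
  have htrS : S.trace = d' := by
    rw [hS, trace_sum, Finset.sum_eq_single (0 : W) (fun x _ hx => hτ.trace_eq_zero hx) (by simp),
      hτ.map_zero, trace_one, Fintype.card_fin]
  let Φ : Matrix (Fin d') (Fin d') ℂ ≃ₐ[ℂ] End ℂ (Fin d' → ℂ) := Matrix.toLinAlgEquiv'
  obtain ⟨E, hE⟩ : ∃ E : Matrix (Fin d') (Fin d') ℂ, E = (2 : ℂ)⁻¹ • (1 - (d' : ℂ)⁻¹ • S) := ⟨_, rfl⟩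
  have hEE : E * E = E := by
    simp only [hE, smul_mul_smul_comm, sub_mul, mul_sub, one_mul, mul_one, smul_mul_assoc, mul_smul_comm, hSS,
      smul_smul, hcard]
    match_scalars <;> field_simp <;> ring
  have hES : E * S = -(d' : ℂ) • E := by
    simp only [hE, smul_mul_assoc, sub_mul, one_mul, hSS, smul_smul, hcard, smul_sub, neg_smul]
    match_scalars <;> field_simp
  have htrE : E.trace = (b : ℂ) := by
    rw [hE, trace_smul, trace_sub, trace_smul, trace_one, Fintype.card_fin, htrS]
    simp only [smul_eq_mul]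
    rw [inv_mul_cancel₀ hd0, hdb]; push_cast
    ring
  obtain ⟨e, he⟩ : ∃ e, e = Φ E := ⟨_, rfl⟩
  have hee : IsIdempotentElem e := by rw [IsIdempotentElem, he, ← map_mul, hEE]
  have hrank : finrank ℂ (LinearMap.range e) = b := by
    apply Nat.cast_injective (R := ℂ)
    rw [← LinearMap.IsProj.trace ((LinearMap.isProj_range_iff_isIdempotentElem e).mpr hee), ← htrE]
    rw [he]
    exact Matrix.trace_toLin'_eq E
  have hrank' : finrank ℂ (LinearMap.range (1 - e)) = b + 1 := by
    apply Nat.cast_injective (R := ℂ)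
    rw [← LinearMap.IsProj.trace ((LinearMap.isProj_range_iff_isIdempotentElem (1 - e)).mpr hee.one_sub), map_sub,
      LinearMap.trace_one, LinearMap.IsProj.trace ((LinearMap.isProj_range_iff_isIdempotentElem e).mpr hee),
      hrank, Module.finrank_fin_fun, hdb]
    push_cast; ring
  have hex : ∀ g, ∃ P : Matrix (Fin d') (Fin d') ℂ, P.det = 1 ∧ ∀ x, P * τ x = τ (act g x) * P :=
    fun g => hτ.exists_intertwiner (hact g)
  choose P hPdet hP using hex
  have hPS : ∀ g, P g * S = S * P g := fun g => by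
    rw [hS, Finset.mul_sum, Finset.sum_mul]
    simp only [hP]
    exact Fintype.sum_equiv (act g).toEquiv _ _ fun x => rfl
  have hPE : ∀ g, P g * E = E * P g := fun g => by
    simp only [hE, mul_smul_comm, smul_mul_assoc, mul_sub, sub_mul, mul_one, one_mul, hPS]
  have hinv : ∀ g, IsUnit (P g).det := fun g => by rw [hPdet]; exact isUnit_one
  have hk : ∀ g h, ∃ k : ℂ, P g * P h = k • P (g * h) := by
    intro g h
    obtain ⟨c, hc⟩ := hτ.schur ((P (g * h))⁻¹ * (P g * P h)) fun x => by
      have h1 : (P g * P h) * τ x = τ (act (g * h) x) * (P g * P h) := by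
        rw [mul_assoc, hP, ← mul_assoc, hP, hmul, mul_assoc]
      have h2 : (P (g * h))⁻¹ * τ (act (g * h) x) = τ x * (P (g * h))⁻¹ := by
        calc (P (g * h))⁻¹ * τ (act (g * h) x)
            = (P (g * h))⁻¹ * (τ (act (g * h) x) * P (g * h)) * (P (g * h))⁻¹ := by
              rw [mul_assoc, mul_assoc (τ _), Matrix.mul_nonsing_inv _ (hinv _), mul_one]
          _ = _ := by rw [← hP, ← mul_assoc, Matrix.nonsing_inv_mul _ (hinv _), one_mul]
      rw [mul_assoc, h1, ← mul_assoc, h2, mul_assoc]
    refine ⟨c, ?_⟩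
    calc P g * P h = P (g * h) * ((P (g * h))⁻¹ * (P g * P h)) := by
          rw [← mul_assoc, Matrix.mul_nonsing_inv _ (hinv _), one_mul]
      _ = _ := by rw [hc, mul_smul_comm, mul_one]
  choose k hk using hk
  obtain ⟨k₁, hk₁⟩ : ∃ k₁ : ℂ, P 1 = k₁ • 1 := hτ.schur (P 1) fun x => by rw [hP, hone]
  obtain ⟨ρ, hρ⟩ := exists_rep_of_projective e (fun g => Φ (P g))
    (fun g => by rw [he, ← map_mul, ← map_mul, hPE])
    (fun g => ⟨Φ (P g)⁻¹, by rw [← map_mul, Matrix.mul_nonsing_inv _ (hinv g), map_one],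
      by rw [← map_mul, Matrix.nonsing_inv_mul _ (hinv g), map_one]⟩)
    k (fun g h => by rw [← map_mul, hk, map_smul]) k₁ (by rw [hk₁, map_smul, map_one]) (by rw [hrank', hrank])
  let η : LinearMap.range e ≃ₗ[ℂ] (Fin b → ℂ) :=
    (Module.finBasisOfFinrankEq ℂ (LinearMap.range e) hrank).equivFun
  let ρ' : Representation ℂ G (Fin b → ℂ) :=
    { toFun := fun g => η.conj (ρ g)
      map_one' := by rw [map_one]; exact LinearEquiv.conj_id η
      map_mul' := fun g h => by rw [map_mul]; exact LinearEquiv.conj_comp η _ _ }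
  refine ⟨ρ', ?_⟩
  by_contra hall
  push Not at hall
  have hscal : ∀ g, ∃ r : ℂ, r ≠ 0 ∧ P g * E = r • E := by
    intro g
    obtain ⟨c, hc, hcg⟩ := hρ g
    refine ⟨c⁻¹, inv_ne_zero hc, Φ.injective ?_⟩
    have h1 : ρ g = 1 := by
      apply η.conj.injective
      exact (hall g).trans (LinearEquiv.conj_id η).symm
    rw [hcg] at h1
    refine LinearMap.ext fun v => ?_
    have h2 := congrArg Subtype.val (LinearMap.congr_fun h1 ⟨e v, LinearMap.mem_range_self e v⟩)
    simp only [LinearMap.smul_apply, SetLike.val_smul, onRange_apply, Module.End.one_apply] at h2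
    rw [map_mul, map_smul, ← he, Module.End.mul_apply, LinearMap.smul_apply, eq_inv_smul_iff₀ hc]
    exact h2
  have hcomp : ∀ g x, E * τ (act g x) * E = E * τ x * E := by
    intro g x
    obtain ⟨r, hr, hPg⟩ := hscal g
    have h1 : E * τ (act g x) * (P g * E) = (E * P g) * τ x * E := by
      rw [← mul_assoc, mul_assoc E, ← hP, ← mul_assoc, mul_assoc _ (τ x)]
    rw [← hPE, hPg, mul_smul_comm, smul_mul_assoc, smul_mul_assoc] at h1
    exact smul_right_injective _ hr h1
  obtain ⟨x₀, hx₀⟩ : ∃ x : W, x ≠ 0 := by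
    by_contra h
    push Not at h
    have : Subsingleton W := ⟨fun a c => by rw [h a, h c]⟩
    have := Fintype.card_le_one_iff_subsingleton.mpr this
    nlinarith
  set M := E * τ x₀ * E with hM
  have hsx : ∀ x, x ≠ 0 → E * τ x * E = M := fun x hx => by
    obtain ⟨g, hg⟩ := htrans x₀ x hx₀ hx
    rw [← hg, hcomp]
  have hsum : E + ((Fintype.card W : ℂ) - 1) • M = -(d' : ℂ) • E := by
    have h1 : E * S * E = -(d' : ℂ) • E := by rw [hES, smul_mul_assoc, hEE]
    rw [← h1, hS, Finset.mul_sum, Finset.sum_mul, ← Finset.add_sum_erase _ _ (Finset.mem_univ (0 : W)),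
      hτ.map_zero, mul_one, hEE, Finset.sum_congr rfl (fun x hx => hsx x (Finset.ne_of_mem_erase hx)),
      Finset.sum_const, Finset.card_erase_of_mem (Finset.mem_univ _), Finset.card_univ,
      ← Nat.cast_smul_eq_nsmul ℂ, Nat.cast_sub Fintype.card_pos, Nat.cast_one]
  have hd1 : (d' : ℂ) - 1 ≠ 0 := by
    rw [sub_ne_zero]; exact_mod_cast (show d' ≠ 1 by omega)
  have hd2 : (d' : ℂ) + 1 ≠ 0 := by exact_mod_cast (show d' + 1 ≠ 0 by omega)
  have hM' : M = (-((d' : ℂ) - 1)⁻¹) • E := by
    have h2 : ((d' : ℂ) * d' - 1) • M = (-((d' : ℂ) + 1)) • E := by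
      rw [← hcard, neg_add, add_smul, ← hsum, neg_one_smul]
      abel
    have h3 : (d' : ℂ) * d' - 1 ≠ 0 := by
      rw [show (d' : ℂ) * d' - 1 = ((d' : ℂ) - 1) * (d' + 1) by ring]; exact mul_ne_zero hd1 hd2
    calc M = ((d' : ℂ) * d' - 1)⁻¹ • ((d' : ℂ) * d' - 1) • M := (inv_smul_smul₀ h3 _).symm
      _ = _ := by
        rw [h2, smul_smul]
        congr 1
        rw [show (d' : ℂ) * d' - 1 = ((d' : ℂ) - 1) * (d' + 1) by ring, mul_inv, mul_neg, mul_assoc,
          inv_mul_cancel₀ hd2, mul_one]
  let s : W → ℂ := fun x => if x = 0 then 1 else -((d' : ℂ) - 1)⁻¹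
  have hs : ∀ x, E * τ x * E = s x • E := fun x => by
    by_cases hx : x = 0
    · simp [s, hx, hτ.map_zero, hEE]
    · simp only [s, if_neg hx, hsx x hx, hM']
  have hscalar : ∀ Y, ∃ c : ℂ, E * Y * E = c • E := by
    intro Y
    set K : ℂ := ∑ x, s x * s (-x) with hK
    have hK0 : K ≠ 0 := by
      have hKv : K = 1 + ((d' : ℂ) * d' - 1) * ((((d' : ℂ) - 1)⁻¹) * (((d' : ℂ) - 1)⁻¹)) := by
        rw [hK, ← Finset.add_sum_erase _ _ (Finset.mem_univ (0 : W)),
          Finset.sum_congr rfl (g := fun _ => ((d' : ℂ) - 1)⁻¹ * ((d' : ℂ) - 1)⁻¹) (fun x hx => by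
            have := Finset.ne_of_mem_erase hx
            simp [s, this]),
          Finset.sum_const, Finset.card_erase_of_mem (Finset.mem_univ _), Finset.card_univ, nsmul_eq_mul,
          Nat.cast_sub Fintype.card_pos, Nat.cast_one, hcard]
        simp [s]
      rw [hKv]
      intro h0
      field_simp at h0
      have : (2 : ℂ) * d' * ((d' : ℂ) - 1) = 0 := by linear_combination h0
      exact mul_ne_zero (mul_ne_zero two_ne_zero hd0) hd1 this
    have h1 := congrArg (fun Z => E * Z * E) (hτ.avg_eq (E * Y * E))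
    simp only [Finset.mul_sum, Finset.sum_mul, mul_smul_comm, smul_mul_assoc, mul_one, hEE] at h1
    have h2 : ∀ x, E * (τ x * (E * Y * E) * IsTwisted.inv' τ (fun x z => B x z) x) * E =
        (s x * s (-x)) • (E * Y * E) := by
      intro x
      have hi : IsTwisted.inv' τ (fun x z => B x z) x = τ (-x) := by
        simp only [IsTwisted.inv', map_neg, halt, neg_zero, pc_zero, one_smul]
      rw [hi, show E * (τ x * (E * Y * E) * τ (-x)) * E = (E * τ x * E) * Y * (E * τ (-x) * E) by
        simp only [mul_assoc], hs, hs, smul_mul_assoc, smul_mul_assoc, mul_smul_comm, smul_smul]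
    simp only [h2] at h1
    rw [← Finset.sum_smul, ← hK] at h1
    refine ⟨K⁻¹ * ((Fintype.card W : ℂ) * (E * Y * E).trace / d'), ?_⟩
    rw [← smul_smul, ← h1, inv_smul_smul₀ hK0]
  have hend : ∀ f : End ℂ (LinearMap.range e), ∃ c : ℂ, c • (1 : End ℂ (LinearMap.range e)) = f := by
    intro f
    obtain ⟨c, hc⟩ := hscalar (Φ.symm ((LinearMap.range e).subtype ∘ₗ f ∘ₗ e.rangeRestrict))
    refine ⟨c, LinearMap.ext fun u => Subtype.ext ?_⟩
    have hu : e u.1 = u.1 := by
      obtain ⟨w, hw⟩ := u.2
      rw [← hw, ← Module.End.mul_apply, hee.eq]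
    have hu' : ∀ w : LinearMap.range e, e w.1 = w.1 := fun w => by
      obtain ⟨z, hz⟩ := w.2
      rw [← hz, ← Module.End.mul_apply, hee.eq]
    have h3 := LinearMap.congr_fun (congrArg Φ hc) u.1
    rw [map_mul, map_mul, map_smul, AlgEquiv.apply_symm_apply, ← he, Module.End.mul_apply,
      Module.End.mul_apply, LinearMap.smul_apply, hu] at h3
    have h4 : e.rangeRestrict u.1 = u := Subtype.ext hu
    simp only [LinearMap.comp_apply, h4, Submodule.coe_subtype, hu'] at h3
    simp only [LinearMap.smul_apply, Module.End.one_apply, SetLike.val_smul]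
    exact h3.symm
  have hle := finrank_le_one (R := ℂ) (1 : End ℂ (LinearMap.range e)) hend
  rw [Module.finrank_linearMap, hrank] at hle
  nlinarith

end CfsgLib.RepBounds
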